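import Mathlib
import Cfsg.Agent.Part.Main
import Cfsg.Agent.GW.Cor
import Cfsg.Agent.Perm.FC6
import Cfsg.Agent.S2202
import Cfsg.Agent.S3277
import Cfsg.Agent.FGS.Cyc2
import Cfsg.Agent.Max.L2e

/-! Groups with an involution whose centralizer is a generalised dihedral group: tools. -/

set_option autoImplicit false

namespace Cfsg.Agent.SW

open Subgroup Cfsg.Agent.GW Cfsg.Agent.PLocal Cfsg.Agent.Inv Cfsg.Agent.Classical.AutPSL
  Cfsg.Agent.Classical.AutPSL2
open scoped MatrixGroups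

universe u

/-- `PSL₂` or `PGL₂` over a field with more than three elements. -/
def DgL (X : Type*) [Group X] : Prop :=
  ∃ (F : Type) (_ : Field F) (_ : Fintype F), 3 < Fintype.card F ∧
    (Nonempty (X ≃* PSL(2, F)) ∨ Nonempty (X ≃* Matrix.ProjGenLinGroup (Fin 2) F))

theorem dg_dih0 {X : Type u} [Group X] [Finite X] (hD : DihSyl X) (hO : oddCore X = ⊥)
    (hs : ¬ Group.IsSolvable X) {j : X} (hj : orderOf j = 2)
    (h1 : ∀ a ∈ cz j, ∀ b ∈ cz j, a * a ≠ 1 → b * b ≠ 1 → a * b = b * a)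
    (h2 : ∀ h ∈ cz j, ∃ s t : X, s * s = 1 ∧ t * t = 1 ∧ h = s * t) : DgL X := by
  have hO' : ∀ L : Subgroup X, L.Normal → oddCore L = ⊥ := fun L _ =>
    (map_eq_bot_iff_of_injective _ L.subtype_injective).1 (eq_bot_iff.2 (hO ▸ Inv.le_oddCore inferInstance (by
      rw [card_map_of_injective L.subtype_injective]; exact Inv.odd_card_oddCore)))
  obtain ⟨L, hL, h0, hp⟩ := Perm.exists_perfect_normal hs
  have hp' : ⁅L, L⁆ = L := by
    rw [← map_subtype_commutator, hp, ← MonoidHom.range_eq_map, range_subtype]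
  obtain ⟨t, ht, s, hs', k1, k2⟩ := four_of_perfect hD hp' h0
  have hD' := hD.sub k1 k2 ht hs'
  have := hD'.simple hp (hO' L hL)
  have hE : layOf (⊤ : Subgroup X) ≠ ⊥ := fun h => h0 (eq_bot_iff.2 (h ▸ fun x hx => ⟨⟨x, trivial⟩,
    Comp2.component_le_layer (K := L.subgroupOf ⊤) ⟨Normal.isSubnormal inferInstance, Comp2.quasisimple_of_mulEquiv
      (Comp2.quasisimple_of_isSimpleGroup (hD'.not_comm hp)) (subgroupOfEquivOfLe le_top).symm⟩ hx, rfl⟩))
  have hO2 : oOf (⊤ : Subgroup X) = ⊥ := by rw [oOf, ← oddCore, hO' _ inferInstance, Subgroup.map_bot]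
  have := hD.nontrivial
  rcases shape (ih_all (X × X)) hD (M := ⊤) (by
    rw [card_top, Nat.card_prod]
    exact lt_mul_self Finite.one_lt_card) hE with ⟨F, _, _, h3, h4, -, f, h, H⟩ | h
  · let φ : X →* MulAut PSL(2, F) := MonoidHom.mk' f fun a b => h.mul a trivial b trivial
    have hφ : Function.Injective φ := (injective_iff_map_eq_one _).2 fun x hx =>
      mem_bot.1 (hO2 ▸ (h.ker x trivial).1 hx)
    have hI : Inn PSL(2, F) ≤ φ.range := fun x hx => by
      obtain ⟨e, -, he⟩ := (h.lay x).1 hx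
      exact ⟨e, he⟩
    have inv : ∀ s : X, s * s = 1 → φ s ∈ (dA : GL (Fin 2) F →* _).range := fun s ss => by
      by_cases e : s = 1
      · rw [e, map_one]; exact one_mem _
      · obtain ⟨w, -, hw⟩ := H s trivial (two_iff.2 ⟨e, ss⟩)
        exact ⟨w, hw⟩
    have hR : φ.range ≤ (dA : GL (Fin 2) F →* _).range := by
      rintro _ ⟨g, rfl⟩
      obtain ⟨w, hw, ew⟩ := H j trivial hj
      obtain ⟨v, hv, ev⟩ := H (g * j * g⁻¹) trivial (by rw [← MulAut.conj_apply, MulEquiv.orderOf_eq, hj])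
      have e1 : dA (v * w⁻¹) ∈ Inn PSL(2, F) := by
        rw [map_mul, map_inv, ev, ew]
        have := PG.comm_mem (φ g) (φ j)
        rwa [← map_inv, ← map_mul, ← map_mul] at this
      have e2 : IsSquare (w.1.det * v.1.det) := by
        have e3 := (PG.dA_mem_inn.1 e1).mul (IsSquare.mul_self w.1.det)
        rw [Units.val_mul, Matrix.det_mul, Matrix.coe_units_inv, Matrix.det_nonsing_inv, Ring.inverse_eq_inv] at e3
        have := w.det_ne_zero
        have e5 : w.1.det * v.1.det = v.1.det * w.1.det⁻¹ * (w.1.det * w.1.det) := by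
          have : w.1.det ≠ 0 := this
          field_simp
        rwa [e5]
      obtain ⟨x, hx, e4⟩ := PG.exists_conj_inn h3 hw hv e2
      obtain ⟨l, rfl⟩ := hI hx
      have e5 : l⁻¹ * g ∈ cz j := mem_cz_of_conj (hφ (by
        have e6 : φ l * φ j * (φ l)⁻¹ = φ (g * j * g⁻¹) := by
          rw [ew, ev] at e4; exact e4
        simp only [map_mul, map_inv] at e6 ⊢
        calc _ = (φ l)⁻¹ * (φ g * φ j * (φ g)⁻¹) * φ l := by group
          _ = _ := by rw [← e6]; group))
      obtain ⟨s, t, ss, tt, e7⟩ := h2 _ e5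
      rw [show g = l * (s * t) by rw [← e7]; group, map_mul, map_mul]
      exact mul_mem (inn_le hx) (mul_mem (inv s ss) (inv t tt))
    have e1 := MonoidHom.ofInjective hφ
    refine ⟨F, inferInstance, inferInstance, h4, ?_⟩
    rcases Part.eq_inn_or hI hR with e | e
    · rw [e] at e1
      exact Or.inl ⟨e1.trans (MonoidHom.ofInjective Part.conj_injective).symm⟩
    · rw [e] at e1
      exact Or.inr ⟨e1.trans pglEquiv.symm⟩
  · exfalso
    obtain ⟨f, h, h3, -⟩ := h j trivial hj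
    let φ : X →* Equiv.Perm (Fin 7) := MonoidHom.mk' f fun a b => h.mul a trivial b trivial
    have hφ : Function.Injective φ := (injective_iff_map_eq_one _).2 fun x hx =>
      mem_bot.1 (hO2 ▸ (h.ker x trivial).1 hx)
    have key : Equiv.Perm.sign A7.k0 = 1 ∧ Equiv.Perm.sign (A7.z0 * A7.s0) = 1 ∧
      A7.k0 * A7.t0 = A7.t0 * A7.k0 ∧ (A7.z0 * A7.s0) * A7.t0 = A7.t0 * (A7.z0 * A7.s0) ∧
      A7.k0 * A7.k0 ≠ 1 ∧ (A7.z0 * A7.s0) * (A7.z0 * A7.s0) ≠ 1 ∧
      A7.k0 * (A7.z0 * A7.s0) ≠ (A7.z0 * A7.s0) * A7.k0 := by decide +kernel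
    obtain ⟨a1, a2, a3, a4, a5, a6, a7⟩ := key
    obtain ⟨a, -, ha⟩ := (h.lay _).1 (Equiv.Perm.mem_alternatingGroup.2 a1)
    obtain ⟨b, -, hb⟩ := (h.lay _).1 (Equiv.Perm.mem_alternatingGroup.2 a2)
    have ha' : φ a = A7.k0 := ha
    have hb' : φ b = A7.z0 * A7.s0 := hb
    have h3' : φ j = A7.t0 := h3
    rw [← ha', ← h3', ← map_mul, ← map_mul, hφ.eq_iff] at a3
    rw [← hb', ← h3', ← map_mul, ← map_mul, hφ.eq_iff] at a4
    rw [← ha', ← hb', ← map_mul, ← map_mul, hφ.ne_iff] at a7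
    rw [← ha', ← map_mul] at a5
    rw [← hb', ← map_mul] at a6
    exact a7 (h1 a (mem_cz.2 a3) b (mem_cz.2 a4) (fun e => a5 (by rw [e, map_one]))
      fun e => a6 (by rw [e, map_one]))

variable {G : Type u} [Group G] [Finite G]

theorem dg_lift {N : Subgroup G} [N.Normal] (hN : Odd (Nat.card N)) {j : G} (hj : j * j = 1)
    {x : G ⧸ N} (hx : x ∈ cz (j : G ⧸ N)) : ∃ c ∈ cz j, (c : G ⧸ N) = x := by
  obtain ⟨m, rfl⟩ := QuotientGroup.mk_surjective x
  have h1 : m * j * m⁻¹ * j ∈ N := by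
    rw [← QuotientGroup.eq_one_iff]
    simp only [QuotientGroup.mk_mul, QuotientGroup.mk_inv]
    rw [conj_eq_of_mem_cz hx, ← QuotientGroup.mk_mul, hj, QuotientGroup.mk_one]
  obtain ⟨d, hd, h⟩ := cz_lift hj (odd_orderOf hN h1)
  exact ⟨_, h, by rw [QuotientGroup.mk_mul, (QuotientGroup.eq_one_iff d).2 (zpowers_le.2 h1 hd), one_mul]⟩

theorem dg_two {N : Subgroup G} [N.Normal] (hN : Odd (Nat.card N)) {j : G} (hj : orderOf j = 2) :
    orderOf (j : G ⧸ N) = 2 :=
  two_iff.2 ⟨fun e => not_mem_of_odd hN hj ((QuotientGroup.eq_one_iff j).1 e),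
    by rw [← QuotientGroup.mk_mul, mul_self_of_two hj, QuotientGroup.mk_one]⟩

theorem dg_ns {N : Subgroup G} [N.Normal] (hN : Group.IsSolvable N) (hs : ¬ Group.IsSolvable G) :
    ¬ Group.IsSolvable (G ⧸ N) := fun _ =>
  hs (solvable_of_ker_le_range N.subtype (QuotientGroup.mk' N) (by simp))

theorem dg_dih (hD : DihSyl G) (hs : ¬ Group.IsSolvable G) {j : G} (hj : orderOf j = 2)
    (h1 : ∀ a ∈ cz j, ∀ b ∈ cz j, a * a ≠ 1 → b * b ≠ 1 → a * b = b * a)
    (h2 : ∀ h ∈ cz j, ∃ s t : G, s * s = 1 ∧ t * t = 1 ∧ h = s * t) : DgL (G ⧸ oddCore G) := by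
  have ho := odd_oddCore (G := G)
  refine dg_dih0 (hD.quot _ ho) (Core.pPrimeCore_quotient_pPrimeCore 2) (dg_ns (solv_of_odd ho) hs)
    (dg_two ho hj) (fun a ha b hb aa bb => ?_) fun h hh => ?_
  · obtain ⟨a, ha', rfl⟩ := dg_lift ho (mul_self_of_two hj) ha
    obtain ⟨b, hb', rfl⟩ := dg_lift ho (mul_self_of_two hj) hb
    rw [← QuotientGroup.mk_mul] at aa bb ⊢
    rw [h1 a ha' b hb' (fun e => aa (by rw [e, QuotientGroup.mk_one]))
      fun e => bb (by rw [e, QuotientGroup.mk_one]), QuotientGroup.mk_mul]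
  · obtain ⟨c, hc, rfl⟩ := dg_lift ho (mul_self_of_two hj) hh
    obtain ⟨s, t, ss, tt, rfl⟩ := h2 c hc
    exact ⟨s, t, by rw [← QuotientGroup.mk_mul, ss, QuotientGroup.mk_one],
      by rw [← QuotientGroup.mk_mul, tt, QuotientGroup.mk_one], rfl⟩

theorem dg_sl4 {F : Type*} [Field F] (h2 : (2 : F) = 0) (g : SL(2, F)) (h : g * g * (g * g) = 1) :
    g * g = 1 := by
  obtain ⟨g, hg'⟩ := g
  have hg := hg'
  rw [Matrix.det_fin_two] at hg
  have e : g * g * (g * g) = 1 := congrArg Subtype.val h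
  have e0 := congrFun (congrFun e 0) 0
  have e1 := congrFun (congrFun e 1) 1
  simp [Matrix.mul_apply, Fin.sum_univ_two] at e0 e1
  set a := g 0 0 with ha
  set b := g 0 1 with hb
  set c := g 1 0 with hc
  set d := g 1 1 with hd
  have ht : a + d = 0 := by
    have h4 : (a + d) ^ 4 = 0 := by
      linear_combination e0 + e1 + (4 * (a + d) ^ 2 - 2 - 2 * (a * d - b * c)) * hg +
        (2 * (a + d) ^ 2) * h2
    exact pow_eq_zero_iff (by norm_num) |>.1 h4
  apply Subtype.ext
  change g * g = 1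
  ext i k
  fin_cases i <;> fin_cases k <;>
    simp [Matrix.mul_apply, Fin.sum_univ_two, ← ha, ← hb, ← hc, ← hd]
  · linear_combination a * ht - hg - h2
  · linear_combination b * ht
  · linear_combination c * ht
  · linear_combination d * ht - hg - h2

/-- Nonsolvable groups with abelian involution centralizers. -/
theorem dg_ab (hs : ¬ Group.IsSolvable G)
    (h : ∀ t : G, orderOf t = 2 → IsMulCommutative (centralizer ({t} : Set G))) :
    (∀ g : G, g * g * (g * g) = 1 → g * g = 1) ∧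
    ∃ (F : Type) (_ : Field F) (_ : Fintype F), 3 < Fintype.card F ∧
      ∃ π : G →* PSL(2, F), Function.Surjective π ∧ Odd (Nat.card π.ker) := by
  have := Fact.mk Nat.prime_two
  have he : Even (Nat.card G) := Nat.not_odd_iff_even.1 fun ho =>
    hs (by
      have := solv_of_odd (K := (⊤ : Subgroup G)) (by rwa [card_top])
      exact solvable_of_surjective (f := (⊤ : Subgroup G).subtype) fun x => ⟨⟨x, trivial⟩, rfl⟩)
  obtain ⟨P⟩ : Nonempty (Sylow 2 G) := inferInstance
  rcases S2202.result he h with h1 | h1 | ⟨F, _, _, B, _, _, hc, hB, ⟨e⟩⟩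
  · exact absurd (FGS.solvable_of_cyclic_two P (h1 P)) hs
  · exfalso
    have := h1 P
    have := P.isPGroup'.isNilpotent
    refine dg_ns (N := P) inferInstance hs ?_
    have := solv_of_odd (K := (⊤ : Subgroup (G ⧸ (P : Subgroup G)))) (by
      rw [card_top, ← index_eq_card]
      exact Nat.not_even_iff_odd.1 fun e => P.not_dvd_index e.two_dvd)
    exact solvable_of_surjective (f := (⊤ : Subgroup (G ⧸ (P : Subgroup G))).subtype)
      fun x => ⟨⟨x, trivial⟩, rfl⟩
  have h2 : (2 : F) = 0 := CharTwo.two_eq_zero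
  let π : G →* PSL(2, F) := (Classical.PSL2Basic.slEquivPSL h2).toMonoidHom.comp
    ((MonoidHom.fst _ _).comp e.toMonoidHom)
  have hπ : Function.Surjective π := (Classical.PSL2Basic.slEquivPSL h2).surjective.comp
    (Prod.fst_surjective.comp e.surjective)
  have hk : Odd (Nat.card π.ker) := odd_card_of_forall fun k hk => by
    have e1 : (e k).1 = 1 := (Classical.PSL2Basic.slEquivPSL h2).map_eq_one_iff.1 hk
    rw [← e.orderOf_eq, Prod.orderOf, e1, orderOf_one, Nat.lcm_one_left]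
    exact hB.of_dvd_nat (orderOf_dvd_natCard _)
  refine ⟨fun g hg => ?_, F, inferInstance, inferInstance, ?_, π, hπ, hk⟩
  · have e1 : (e g).1 * (e g).1 = 1 := dg_sl4 h2 _ (by
      have := congrArg (fun x => (e x).1) hg
      simpa using this)
    have e2 : g * g ∈ π.ker := by
      change Classical.PSL2Basic.slEquivPSL h2 (e (g * g)).1 = 1
      rw [map_mul e, Prod.fst_mul, e1, map_one]
    exact eq_one_of_sq (odd_orderOf hk e2) hg
  · by_contra h3
    have h4 : Fintype.card F = 2 := by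
      have := FiniteField.even_card_of_char_two (ringChar.eq F 2)
      have := Fintype.one_lt_card (α := F)
      omega
    refine dg_ns (N := π.ker) (solv_of_odd hk) hs ?_
    have : Group.IsSolvable PSL(2, F) := by
      obtain ⟨e'⟩ := Classical.PSL2Basic.psl_equiv_S3 (F := F) (by rwa [Nat.card_eq_fintype_card])
      obtain ⟨Q⟩ : Nonempty (Sylow 2 PSL(2, F)) := inferInstance
      refine FGS.solvable_of_cyclic_two Q (isCyclic_of_prime_card (p := 2) ?_)
      rw [Q.card_eq_multiplicity, Nat.card_congr e'.toEquiv, Nat.card_perm]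
      simp only [Nat.card_eq_fintype_card, Fintype.card_fin]
      decide +kernel
    exact solvable_of_surjective
      (f := (QuotientGroup.quotientKerEquivOfSurjective π hπ).symm.toMonoidHom) (MulEquiv.surjective _)

end Cfsg.Agent.SW
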