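import Mathlib
import Cfsg.Agent.SW.DG1
import Cfsg.Agent.GC.U4
import Cfsg.Agent.Inv.Ord8
import Cfsg.Agent.PGrp.Basic

/-! Groups with an involution whose centralizer has order at most four. -/

set_option autoImplicit false

namespace Cfsg.Agent.SW

open Subgroup Cfsg.Agent.GW Cfsg.Agent.PLocal Cfsg.Agent.Inv

universe u

variable {G : Type u} [Group G] [Finite G]

theorem dg_cen {P M : Subgroup G} (hP : IsPGroup 2 P) (hMP : M ≤ P)
    (hn : P ≤ normalizer (M : Set G)) (h0 : M ≠ ⊥) : ∃ z ∈ M, orderOf z = 2 ∧ P ≤ cz z := by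
  have := Fact.mk Nat.prime_two
  obtain ⟨z, h1, h2, h3, h4⟩ := PGrp.exists_central_mod (N := ⊥) hP hMP hn le_normalizer_of_normal
    (by simpa using h0)
  rw [mem_bot] at h2 h3
  refine ⟨z, h1, two_iff.2 ⟨h2, by rwa [← sq]⟩, fun g hg => mem_cz.2 ?_⟩
  exact (commutatorElement_eq_one_iff_mul_comm.1 (mem_bot.1 (h4 g hg))).symm

theorem dg_c2 {j : G} (hj : orderOf j = 2) (h : Nat.card (cz j) ≤ 2) : Group.IsSolvable G := by
  have := Fact.mk Nat.prime_two
  obtain ⟨T, hT⟩ := (pgroup_zp (mul_self_of_two hj)).exists_le_sylow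
  have e : zpowers j = cz j := PGrp.eq_of_le_of_card_le (zpowers_le.2 (self_mem_cz j))
    (by rwa [Nat.card_zpowers, hj])
  obtain ⟨z, hz, z2, hc⟩ := dg_cen T.isPGroup' le_rfl le_normalizer (fun e => (two_iff.1 hj).1 (by
    have := hT (mem_zpowers j)
    rwa [e] at this))
  have h1 : z ∈ zpowers j := e ▸ mem_cz_comm.1 (hc (hT (mem_zpowers j)))
  rcases (mem_zpowers_two (mul_self_of_two hj)).1 h1 with h2 | rfl
  · exact absurd h2 (two_iff.1 z2).1
  · exact FGS.solvable_of_cyclic_two T (isCyclic_of_le (e ▸ hc : (T : Subgroup G) ≤ zpowers z))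

theorem dg_count {E : Subgroup G} [E.Normal] (hE : ∀ e ∈ E, e * e = 1) {j : G} (hj : j * j = 1) :
    Nat.card (cz (j : G ⧸ E)) * Nat.card E ≤ Nat.card (E ⊓ cz j : Subgroup G) * Nat.card (cz j) := by
  set P := (cz (j : G ⧸ E)).comap (QuotientGroup.mk' E) with hP
  have h1 : Nat.card P = Nat.card (cz (j : G ⧸ E)) * Nat.card E := by
    have e1 := P.card_mul_index
    have e2 := (cz (j : G ⧸ E)).card_mul_index
    have e3 := E.card_mul_index
    rw [hP, index_comap_of_surjective _ (QuotientGroup.mk'_surjective E), ← hP] at e1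
    rw [← index_eq_card] at e2
    refine Nat.eq_of_mul_eq_mul_right (Nat.pos_of_ne_zero (cz (j : G ⧸ E)).index_ne_zero_of_finite) ?_
    rw [e1, ← e3, ← e2]; ring
  rw [← h1, ← Nat.card_prod]
  have key : ∀ g : P, (g : G) * j * (g : G)⁻¹ * j ∈ E ⊓ cz j := fun g => by
    have k : (g : G) * j * (g : G)⁻¹ * j ∈ E := by
      rw [← QuotientGroup.eq_one_iff]
      simp only [QuotientGroup.mk_mul, QuotientGroup.mk_inv]
      rw [conj_eq_of_mem_cz (show ((g : G) : G ⧸ E) ∈ cz (j : G ⧸ E) from g.2), ← QuotientGroup.mk_mul, hj, QuotientGroup.mk_one]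
    refine ⟨k, mem_cz.2 ?_⟩
    have k2 := hE _ k
    have k3 : (g : G) * j * (g : G)⁻¹ * ((g : G) * j * (g : G)⁻¹) = 1 := by
      rw [← MulAut.conj_apply, ← map_mul, hj, map_one]
    generalize (g : G) * j * (g : G)⁻¹ = y at k2 k3
    have k4 : y * j = j * y := by
      rw [eq_inv_of_mul_eq_one_left k2, mul_inv_rev, inv_eq_of_mul_eq_one_left hj,
        inv_eq_of_mul_eq_one_left k3]
    rw [mul_assoc, hj, mul_one, ← mul_assoc, ← k4, mul_assoc, hj, mul_one]
  let φ : P → (E ⊓ cz j : Subgroup G) := fun g => ⟨_, key g⟩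
  have k : ∀ g : P, ((Function.invFun φ (φ g) : P) : G)⁻¹ * g ∈ cz j := fun g => by
    have e := congrArg Subtype.val (Function.invFun_eq (f := φ) ⟨g, rfl⟩)
    generalize Function.invFun φ (φ g) = r at e ⊢
    have e' : (r : G) * j * (r : G)⁻¹ = g * j * (g : G)⁻¹ := mul_right_cancel e
    refine mem_cz_of_conj ?_
    calc _ = (r : G)⁻¹ * (g * j * (g : G)⁻¹) * r := by group
      _ = _ := by rw [← e']; group
  refine Nat.card_le_card_of_injective (fun g => (φ g, ⟨_, k g⟩)) fun a b h => ?_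
  have h1 : φ a = φ b := congrArg Prod.fst h
  have h2 : ((Function.invFun φ (φ a) : P) : G)⁻¹ * a = ((Function.invFun φ (φ b) : P) : G)⁻¹ * b :=
    congrArg (fun x => (x.2 : G)) h
  rw [h1] at h2
  exact Subtype.ext (mul_left_cancel h2)

theorem dg_c4 (n : ℕ) : ∀ (G : Type u) [Group G] [Finite G], Nat.card G = n → ∀ j : G, orderOf j = 2 →
    Nat.card (cz j) ≤ 4 → (∀ c ∈ cz j, c * c = 1) →
    Group.IsSolvable G ∨ Nonempty (G ≃* alternatingGroup (Fin 5)) := by
  induction n using Nat.strong_induction_on with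
  | _ n ih =>
  intro G _ _ hn j hj h4 hc
  by_contra hcon
  rw [not_or] at hcon
  obtain ⟨hs, h5⟩ := hcon
  have jj := mul_self_of_two hj
  have h2 : 2 ∣ Nat.card (cz j) := hj ▸ orderOf_dvd_natCard _ (self_mem_cz j)
  have h4' : Nat.card (cz j) = 4 := by
    have := mt (dg_c2 hj) hs
    omega
  refine h5 (S3277.result j hj h4' (fun c h => by rw [sq, hc c h])
    (fun h => hs (LocalEven.isSolvable_of_npc_two h)) fun E _ hE => ?_)
  have EE : ∀ e ∈ E, e * e = 1 := fun e he => by rw [← sq, hE.2 e he]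
  have hEs : Group.IsSolvable E := isSolvable_of_comm hE.1.is_comm.comm
  have hcount := dg_count EE jj
  rw [h4'] at hcount
  by_contra hE2
  have hE2 : Nat.card E = 2 ∨ Nat.card E = 4 := by omega
  by_cases hjE : j ∈ E
  · have e1 : cz (j : G ⧸ E) = ⊤ := by
      rw [(QuotientGroup.eq_one_iff j).2 hjE, eq_top_iff]
      exact fun x _ => mem_cz.2 (by simp)
    rw [e1, card_top, ← index_eq_card, index_mul_card] at hcount
    have e2 : Nat.card (E ⊓ cz j : Subgroup G) ≤ Nat.card E := card_le_of_le inf_le_left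
    have := Nat.card_pos (α := G)
    exact hs (solvable_of_card_dvd (n := Nat.card G) this (by omega)
      (fun h => by have := Nat.le_of_dvd this h; omega) (fun h => by have := Nat.le_of_dvd this h; omega) G dvd_rfl)
  have j2 : orderOf (j : G ⧸ E) = 2 := two_iff.2 ⟨fun e => hjE ((QuotientGroup.eq_one_iff j).1 e),
    by rw [← QuotientGroup.mk_mul, jj, QuotientGroup.mk_one]⟩
  have e2 : Nat.card (E ⊓ cz j : Subgroup G) ≤ 2 := by
    have a1 : Nat.card (E ⊓ cz j : Subgroup G) ∣ 4 := h4' ▸ card_dvd_of_le inf_le_right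
    have a2 : Nat.card (E ⊓ cz j : Subgroup G) < 4 := h4' ▸ PGrp.card_lt_of_lt
      (lt_of_le_of_ne inf_le_right fun e => hjE (e.ge (self_mem_cz j)).1)
    generalize Nat.card (E ⊓ cz j : Subgroup G) = k at a1 a2
    interval_cases k <;> omega
  have hq := dg_ns hEs hs
  have h3 := mt (dg_c2 j2) hq
  rcases hE2 with hE2 | hE2
  swap
  · rw [hE2] at hcount; omega
  rw [hE2] at hcount
  obtain ⟨e, he1, he⟩ : ∃ e : G, e ≠ 1 ∧ ∀ x, x ∈ E ↔ x = 1 ∨ x = e := by
    obtain ⟨e, h1, h2⟩ := (Nat.card_eq_two_iff' (1 : E)).1 hE2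
    refine ⟨e, fun h => h1 (Subtype.ext h), fun x => ⟨fun hx => ?_, ?_⟩⟩
    · exact or_iff_not_imp_left.2 fun h => congrArg Subtype.val (h2 ⟨x, hx⟩ fun e' => h (congrArg Subtype.val e'))
    · rintro (rfl | rfl)
      exacts [one_mem _, e.2]
  have eE : e ∈ E := (he e).2 (Or.inr rfl)
  have ee := EE e eE
  have ec : ∀ g : G, g * e = e * g := fun g => by
    rcases (he _).1 (‹E.Normal›.conj_mem e eE g) with h | h
    · exact absurd (by simpa using h) he1
    · exact mul_inv_eq_iff_eq_mul.1 h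
  have hz : ∀ c ∈ cz j, c ∈ E ∨ c * j ∈ E := by
    have a1 : E ⊔ zpowers j = cz j := PGrp.eq_of_le_of_card_le
      (sup_le (fun x hx => mem_cz.2 (by rcases (he x).1 hx with rfl | rfl; exacts [by simp, (ec j).symm]))
        (zpowers_le.2 (self_mem_cz j)))
      (by rw [PGrp.card_sup_zpowers Nat.prime_two (le_normalizer_of_normal (mem_top j))
        (by rw [sq, jj]; exact one_mem _) hjE, hE2, h4'])
    intro c hc
    rw [← a1] at hc
    obtain ⟨x, hx, y, hy, rfl⟩ := (PGrp.mem_sup_of_le_normalizer le_normalizer_of_normal).1 hc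
    rcases (mem_zpowers_two jj).1 hy with rfl | rfl
    · exact Or.inl (by simpa using hx)
    · exact Or.inr (by rwa [mul_assoc, jj, mul_one])
  have hg : ∀ g : G, (g : G ⧸ E) ∈ cz (j : G ⧸ E) → g ∉ cz j → g * j = j * g * e ∧ g * g ∈ E := by
    intro g h1 h2
    have k : g * j * g⁻¹ * j ∈ E := by
      rw [← QuotientGroup.eq_one_iff]
      simp only [QuotientGroup.mk_mul, QuotientGroup.mk_inv]
      rw [conj_eq_of_mem_cz h1, ← QuotientGroup.mk_mul, jj, QuotientGroup.mk_one]
    have k1 : g * j = j * g * e := by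
      rcases (he _).1 k with k | k
      · exact absurd (mem_cz_of_conj (by rw [eq_inv_of_mul_eq_one_left k, inv_eq_of_mul_eq_one_left jj])) h2
      · calc g * j = g * j * g⁻¹ * j * j * g := by rw [mul_assoc _ j j, jj]; group
          _ = _ := by rw [k, mul_assoc, ← ec]
    refine ⟨k1, (hz (g * g) (mem_cz.2 ?_)).resolve_right fun h => h2 (mem_cz.2 ?_)⟩
    · rw [mul_assoc, k1, ← mul_assoc, ← mul_assoc, k1, mul_assoc _ e g, ← ec, ← mul_assoc, mul_assoc _ e e,
        ee, mul_one, mul_assoc]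
    · have k2 : g * (g * g * j) = g * g * j * g := by
        rcases (he _).1 h with h | h <;> rw [h]
        exacts [by simp, ec g]
      rw [mul_assoc (g * g), ← mul_assoc, ← mul_assoc, mul_assoc (g * g)] at k2
      exact mul_left_cancel k2
  have hlt : Nat.card (G ⧸ E) < n := by
    rw [← hn, card_eq_card_quotient_mul_card_subgroup E, hE2]
    have := Nat.card_pos (α := G ⧸ E)
    omega
  refine (ih _ hlt (G ⧸ E) rfl j j2 (by omega) fun c h => ?_).elim hq fun ⟨f⟩ => ?_
  · obtain ⟨g, rfl⟩ := QuotientGroup.mk_surjective c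
    rw [← QuotientGroup.mk_mul, QuotientGroup.eq_one_iff]
    by_cases h2 : g ∈ cz j
    · rw [hc g h2]; exact one_mem _
    · exact (hg g h h2).2
  obtain ⟨g, g1, g2⟩ : ∃ g : G, (g : G ⧸ E) ∈ cz (j : G ⧸ E) ∧ g ∉ cz j := by
    by_contra hh
    push Not at hh
    refine h3 ((card_le_of_le (K := zpowers (j : G ⧸ E)) fun x hx => ?_).trans (by rw [Nat.card_zpowers, j2]))
    obtain ⟨g, rfl⟩ := QuotientGroup.mk_surjective x
    rcases hz g (hh g hx) with h | h
    · rw [(QuotientGroup.eq_one_iff g).2 h]; exact one_mem _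
    · rw [show g = g * j * j by rw [mul_assoc, jj, mul_one], QuotientGroup.mk_mul,
        (QuotientGroup.eq_one_iff _).2 h, one_mul]
      exact mem_zpowers _
  obtain ⟨w, hw⟩ : ∃ w : G, w * w = e := by
    obtain ⟨k1, k2⟩ := hg g g1 g2
    rcases (he _).1 k2 with k | k
    · refine ⟨j * g, ?_⟩
      calc j * g * (j * g) = j * (g * j) * g := by group
        _ = j * j * g * (e * g) := by rw [k1]; group
        _ = _ := by rw [← ec, jj, one_mul, ← mul_assoc, k, one_mul]
    · exact ⟨g, k⟩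
  obtain ⟨h, hh⟩ := GC.a5_conj (f j) (by rw [← map_mul, mul_self_of_two j2, map_one])
    (f.map_ne_one_iff.2 (two_iff.1 j2).1) (f w) (by
      rw [← map_mul, ← QuotientGroup.mk_mul, hw, (QuotientGroup.eq_one_iff e).2 eE, map_one])
    (f.map_ne_one_iff.2 fun h => he1 (hw ▸ EE w ((QuotientGroup.eq_one_iff w).1 h)))
  obtain ⟨h, rfl⟩ := f.surjective h
  obtain ⟨h, rfl⟩ := QuotientGroup.mk_surjective h
  rw [← map_inv, ← map_mul, ← map_mul, f.apply_eq_iff_eq, ← QuotientGroup.mk_inv, ← QuotientGroup.mk_mul,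
    ← QuotientGroup.mk_mul, QuotientGroup.eq] at hh
  have k3 : h * j * h⁻¹ * (h * j * h⁻¹) = 1 := by rw [← MulAut.conj_apply, ← map_mul, jj, map_one]
  generalize h * j * h⁻¹ = y at hh k3
  refine he1 (hw ▸ ?_)
  rcases (he _).1 hh with k | k
  · rw [← inv_mul_eq_one.1 k, k3]
  · rw [← mul_inv_cancel_left y w, k, mul_assoc, ← mul_assoc e, ← ec, mul_assoc, ee, mul_one, k3]

end Cfsg.Agent.SW
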