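import Mathlib
import Cfsg.Agent.SW.DG2
import Cfsg.Agent.S3224
import Cfsg.Agent.S3380
import Cfsg.Agent.Transfer.Abelian
import Cfsg.Agent.Classical.DihRecog

/-! Groups in which a generalised dihedral group is the centralizer of its central involutions. -/

set_option autoImplicit false

namespace Cfsg.Agent.SW

open Subgroup Cfsg.Agent.GW Cfsg.Agent.PLocal Cfsg.Agent.Inv
open scoped MatrixGroups Pointwise commutatorElement

universe u

theorem dg_tt {G : Type*} [Group G] [Finite G] {H Q : Subgroup G} (hH : Odd H.index)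
    (hQi : Q.relIndex H = 2) {x : G} (hx : x ∈ H) (hxQ : x ∉ Q)
    (h : ∀ u ∈ H, u ∉ Q → u ^ 2 = 1 ∧ ∀ g : G, g * u * g⁻¹ ∉ Q) :
    ∃ M : Subgroup G, M.Normal ∧ M.index = 2 ∧ ∀ u ∈ H, u ∉ Q → u ∉ M := by
  have hn : (Q.subgroupOf H).Normal := normal_of_index_eq_two hQi
  have hcard : Nat.card (H ⧸ Q.subgroupOf H) = 2 := hQi
  have : Fact (Nat.Prime 2) := ⟨Nat.prime_two⟩
  have hcyc : IsCyclic (H ⧸ Q.subgroupOf H) := isCyclic_of_prime_card hcard
  let _ : CommGroup (H ⧸ Q.subgroupOf H) := hcyc.commGroup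
  obtain ⟨c, hc, hc'⟩ := (Nat.card_eq_two_iff' (1 : H ⧸ Q.subgroupOf H)).mp hcard
  have hc2 : c ^ 2 = 1 := by rw [← hcard, pow_card_eq_one']
  set V := MonoidHom.transfer (QuotientGroup.mk' (Q.subgroupOf H)) with hV
  have hVu : ∀ u ∈ H, u ∉ Q → V u = c := fun u h1 h2 => by
    obtain ⟨hu2, h⟩ := h u h1 h2
    rw [hV, Transfer.transfer_eq_pow_of_forall _ u c]
    · obtain ⟨m, hm⟩ := hH
      rw [hm, pow_succ, pow_mul, hc2, one_pow, one_mul]
    · intro k g hg hk hk0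
      have hk2 : k ≤ 2 := by
        by_contra hlt
        exact hk 2 two_pos (by omega) (by rw [hu2]; simp)
      interval_cases k
      · rw [pow_one c]
        apply hc'
        intro h1
        rw [QuotientGroup.mk'_apply, QuotientGroup.eq_one_iff, mem_subgroupOf] at h1
        exact h g⁻¹ (by simpa using h1)
      · rw [hc2, QuotientGroup.mk'_apply, QuotientGroup.eq_one_iff, mem_subgroupOf]
        simp [hu2]
  refine ⟨V.ker, inferInstance, ?_, fun u h1 h2 => by rw [MonoidHom.mem_ker, hVu u h1 h2]; exact hc⟩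
  suffices hr : V.range = ⊤ by rw [index_ker, hr, card_top, hcard]
  rw [eq_top_iff]
  intro y _
  by_cases hy : y = 1
  · exact hy ▸ one_mem _
  · exact ⟨x, by rw [hVu x hx hxQ, hc' y hy]⟩

variable {G : Type u} [Group G] [Finite G]

/-- The conclusion. -/
def DgG (G : Type*) [Group G] : Prop :=
  ∃ (N : Subgroup G) (_ : N.Normal), (Odd (Nat.card N) ∨ ∃ m : ℕ, Odd m ∧ Nat.card N = 2 * m) ∧
    DgL (G ⧸ N)

/-- The hypothesis. -/
structure DgH (H A : Subgroup G) (x : G) : Prop where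
  le : A ≤ H
  xH : x ∈ H
  xA : x ∉ A
  sq : ∀ y ∈ H, y ∉ A → y * y = 1
  cen : ∀ j ∈ H, orderOf j = 2 → (∀ h ∈ H, h * j = j * h) → cz j = H
  ns : ¬ Group.IsSolvable G

theorem dg_cj {g x y : G} (h : x ∈ cz y) : g * x * g⁻¹ ∈ cz (g * y * g⁻¹) :=
  mem_cz.2 (by
    calc _ = g * (x * y) * g⁻¹ := by group
      _ = _ := by rw [mem_cz.1 h]; group)

theorem dg_into {H : Subgroup G} (hH : ¬ 2 ∣ H.index) {t : G} (ht : t * t = 1) :
    ∃ g : G, g * t * g⁻¹ ∈ H := by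
  have := Fact.mk Nat.prime_two
  obtain ⟨R, hR⟩ := FGS.exists_sylow_le_of_not_dvd_index hH
  obtain ⟨S, hS⟩ := (pgroup_zp ht).exists_le_sylow
  obtain ⟨g, rfl⟩ := MulAction.exists_smul_eq G S R
  exact ⟨g, hR (smul_mem_pointwise_smul t (MulAut.conj g) _ (hS (mem_zpowers t)))⟩

namespace DgH

variable {H A : Subgroup G} {x : G} (h : DgH H A x)
include h

theorem inv {y a : G} (hy : y ∈ H) (hy' : y ∉ A) (ha : a ∈ A) : y * a * y⁻¹ = a⁻¹ := by
  have h1 := h.sq y hy hy'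
  have h2 := h.sq (y * a) (mul_mem hy (h.le ha)) fun e => hy' ((mul_mem_cancel_right ha).1 e)
  rw [inv_eq_of_mul_eq_one_left h1]
  exact eq_inv_of_mul_eq_one_left (by rw [← h2]; group)

theorem comm {a b : G} (ha : a ∈ A) (hb : b ∈ A) : a * b = b * a := by
  have h1 := h.inv h.xH h.xA (mul_mem ha hb)
  rw [show x * (a * b) * x⁻¹ = x * a * x⁻¹ * (x * b * x⁻¹) by group, h.inv h.xH h.xA ha,
    h.inv h.xH h.xA hb, ← mul_inv_rev] at h1
  exact (inv_injective h1).symm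

theorem cz_eq {a : G} (ha : a ∈ A) (a2 : orderOf a = 2) : cz a = H :=
  h.cen a (h.le ha) a2 fun y hy => by
    by_cases e : y ∈ A
    · exact h.comm e ha
    · have := h.inv hy e ha
      rwa [inv_eq_of_mul_eq_one_left (mul_self_of_two a2), mul_inv_eq_iff_eq_mul] at this

theorem two {y : G} (hy : y ∈ H) (hy' : y ∉ A) : orderOf y = 2 :=
  two_iff.2 ⟨fun e => hy' (e ▸ one_mem _), h.sq y hy hy'⟩

theorem elem (he : ∀ y ∈ H, y * y = 1) : DgG G := by
  have := Fact.mk Nat.prime_two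
  have hc : ∀ a ∈ H, ∀ b ∈ H, a * b = b * a := fun a ha b hb => by
    rw [eq_inv_of_mul_eq_one_left (he _ (mul_mem ha hb)), mul_inv_rev,
      inv_eq_of_mul_eq_one_left (he a ha), inv_eq_of_mul_eq_one_left (he b hb)]
  have hz : ∀ j ∈ H, orderOf j = 2 → cz j = H := fun j hj j2 => h.cen j hj j2 fun y hy => hc y hy j hj
  have x2 := h.two h.xH h.xA
  obtain ⟨T, hT⟩ := (pgroup_zp (he x h.xH)).exists_le_sylow
  have xT := hT (mem_zpowers x)
  obtain ⟨z, -, z2, hzT⟩ := dg_cen T.isPGroup' le_rfl le_normalizer (fun e => (two_iff.1 x2).1 (by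
    rwa [e] at xT))
  rw [hz z (hz x h.xH x2 ▸ mem_cz_comm.1 (hzT xT)) z2] at hzT
  obtain ⟨-, F, _, _, h3, π, hπ, hk⟩ := dg_ab h.ns fun t ht => ⟨⟨fun a b => Subtype.ext (by
    obtain ⟨g, hg⟩ := dg_into (FGS.not_dvd_index_of_sylow_le T hzT) (mul_self_of_two ht)
    have e := hz _ hg (by rw [← MulAut.conj_apply, MulEquiv.orderOf_eq, ht])
    have := hc _ (e ▸ dg_cj (g := g) a.2) _ (e ▸ dg_cj (g := g) b.2)
    simpa using this)⟩⟩
  exact ⟨π.ker, inferInstance, Or.inl hk, F, inferInstance, inferInstance, h3,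
    Or.inl ⟨QuotientGroup.quotientKerEquivOfSurjective π hπ⟩⟩

variable {b : G} (hb : b ∈ A) (bb : b * b ≠ 1)
include hb bb

theorem idx {y w : G} (hy : y ∈ H) (hy' : y ∉ A) (hw : w ∈ H) (hw' : w ∉ A) : y * w ∈ A := by
  by_contra e
  have h1 := h.inv (mul_mem hy hw) e hb
  rw [show y * w * b * (y * w)⁻¹ = y * (w * b * w⁻¹) * y⁻¹ by group, h.inv hw hw' hb,
    h.inv hy hy' (inv_mem hb), inv_inv] at h1
  exact bb (mul_eq_one_iff_eq_inv.2 h1)

theorem rel : A.relIndex H = 2 :=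
  relIndex_eq_two_iff.2 ⟨x, h.xH, fun y hy => by
    by_cases e : y ∈ A
    · exact Or.inr ⟨e, fun e' => h.xA ((mul_mem_cancel_left e).1 e')⟩
    · exact Or.inl ⟨h.idx hb bb hy e h.xH h.xA, e⟩⟩

theorem fuse {p q : G} (hp : p ∈ A) (hq : q ∈ A) (p2 : orderOf p = 2) (q2 : orderOf q = 2) (pq : p ≠ q)
    {v g : G} (hv : v ∈ A) (v2 : orderOf v = 2) (hg : g * v * g⁻¹ ∈ H) : g * v * g⁻¹ ∈ A := by
  by_contra hn
  have back : ∀ w, w ∈ cz (g * v * g⁻¹) → g⁻¹ * w * g⁻¹⁻¹ ∈ H := fun w hw => by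
    have := dg_cj (g := g⁻¹) hw
    rwa [show g⁻¹ * (g * v * g⁻¹) * g⁻¹⁻¹ = v by group, h.cz_eq hv v2] at this
  have key : ∀ w ∈ A, orderOf w = 2 → g⁻¹ * w * g⁻¹⁻¹ ∉ A := fun w hw w2 e => by
    have e1 := h.cz_eq e (by rw [← MulAut.conj_apply, MulEquiv.orderOf_eq, w2])
    have e2 : g⁻¹ * b * g⁻¹⁻¹ ∈ cz v := by
      rw [h.cz_eq hv v2, ← e1]
      exact dg_cj (h.cz_eq hw w2 ▸ h.le hb)
    have e3 := dg_cj (g := g) e2
    rw [show g * (g⁻¹ * b * g⁻¹⁻¹) * g⁻¹ = b by group] at e3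
    have e4 := h.inv hg hn hb
    rw [conj_eq_of_mem_cz' e3] at e4
    exact bb (mul_eq_one_iff_eq_inv.2 e4)
  have m : ∀ w ∈ A, orderOf w = 2 → g⁻¹ * w * g⁻¹⁻¹ ∈ H := fun w hw w2 =>
    back w (mem_cz_comm.1 (h.cz_eq hw w2 ▸ hg))
  have r2 : orderOf (p * q) = 2 := two_iff.2 ⟨fun e => pq (by
    rw [eq_inv_of_mul_eq_one_left e, inv_eq_of_mul_eq_one_left (mul_self_of_two q2)]), by
    rw [mul_assoc, ← mul_assoc q, h.comm hq hp, mul_assoc, mul_self_of_two q2, mul_one, mul_self_of_two p2]⟩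
  refine key _ (mul_mem hp hq) r2 ?_
  have := h.idx hb bb (m p hp p2) (key p hp p2) (m q hq q2) (key q hq q2)
  rwa [show g⁻¹ * p * g⁻¹⁻¹ * (g⁻¹ * q * g⁻¹⁻¹) = g⁻¹ * (p * q) * g⁻¹⁻¹ by group] at this

theorem odd_index {p q : G} (hp : p ∈ A) (hq : q ∈ A) (p2 : orderOf p = 2) (q2 : orderOf q = 2)
    (pq : p ≠ q) : ¬ 2 ∣ H.index := by
  have := Fact.mk Nat.prime_two
  let V : Subgroup G :=
    { carrier := {a | a ∈ A ∧ a * a = 1}
      one_mem' := ⟨one_mem _, one_mul _⟩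
      mul_mem' := fun {a c} ha hc => ⟨mul_mem ha.1 hc.1, by
        rw [mul_assoc, ← mul_assoc c, h.comm hc.1 ha.1, mul_assoc, hc.2, mul_one, ha.2]⟩
      inv_mem' := fun {a} ha => ⟨inv_mem ha.1, by rw [← mul_inv_rev, ha.2, inv_one]⟩ }
  have hV : IsPGroup 2 V := fun a => ⟨1, Subtype.ext (by simpa [_root_.sq] using a.2.2)⟩
  obtain ⟨T, hT⟩ := hV.exists_le_sylow
  refine FGS.not_dvd_index_of_sylow_le T (by_contra fun hn => ?_)
  have hlt := LocalEven.lt_inf_normalizer T.isPGroup' (Q := (T : Subgroup G) ⊓ H)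
    (lt_of_le_of_ne inf_le_left fun e => hn (e.ge.trans inf_le_right))
  have hVW : V ≤ (T : Subgroup G) ⊓ H := le_inf hT fun a ha => h.le ha.1
  have hN : (T : Subgroup G) ⊓ normalizer (((T : Subgroup G) ⊓ H : Subgroup G) : Set G) ≤
      normalizer (V : Set G) := fun t ht => PGrp.mem_normalizer_of_conj_mem fun v hv => by
    by_cases e : v = 1
    · simp [e]
    · exact ⟨h.fuse hb bb hp hq p2 q2 pq hv.1 (two_iff.2 ⟨e, hv.2⟩)
        (PGrp.conj_mem_of_mem_normalizer ht.2 (hVW hv)).2, by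
        rw [← MulAut.conj_apply, ← map_mul, hv.2, map_one]⟩
  obtain ⟨z, hz, z2, hc⟩ := dg_cen (M := V) (T.isPGroup'.to_le inf_le_left) (hVW.trans hlt.le) hN
    (fun e => (two_iff.1 p2).1 (mem_bot.1 (e ▸ (⟨hp, mul_self_of_two p2⟩ : p ∈ V))))
  rw [h.cz_eq hz.1 z2] at hc
  exact hlt.not_ge (le_inf inf_le_left hc)

theorem rank_two {p q : G} (hp : p ∈ A) (hq : q ∈ A) (p2 : orderOf p = 2) (q2 : orderOf q = 2)
    (pq : p ≠ q) : DgG G := by
  have := Fact.mk Nat.prime_two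
  have hi := h.odd_index hb bb hp hq p2 q2 pq
  obtain ⟨M, _, hM, hout⟩ := dg_tt (Nat.not_even_iff_odd.1 fun e => hi e.two_dvd) (h.rel hb bb) h.xH h.xA
    fun u hu hu' => ⟨by rw [_root_.sq, h.sq u hu hu'], fun g hg => hu' (by
      have := h.fuse hb bb hp hq p2 q2 pq (g := g⁻¹) hg
        (by rw [← MulAut.conj_apply, MulEquiv.orderOf_eq, h.two hu hu']) (by simpa [mul_assoc] using hu)
      simpa [mul_assoc] using this)⟩
  have hA : ∀ y ∈ H, y ∈ M → y ∈ A := fun y hy hy' => by_contra fun e => hout y hy e hy'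
  have AM : A ≤ M := fun a ha => by
    have := (mul_mem_iff_of_index_two hM (a := a * x) (b := x)).2 (iff_of_false
      (hout _ (mul_mem (h.le ha) h.xH) fun e => h.xA ((mul_mem_cancel_left ha).1 e)) (hout x h.xH h.xA))
    rwa [mul_assoc, h.sq x h.xH h.xA, mul_one] at this
  have hMs : ¬ Group.IsSolvable M := fun hs => dg_ns hs h.ns (by
    have : IsCyclic (G ⧸ M) := isCyclic_of_prime_card (p := 2) hM
    exact isSolvable_of_comm IsCyclic.isMulCommutative.is_comm.comm)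
  obtain ⟨h4, F, _, _, h3, π, hπ, hk⟩ := dg_ab hMs fun t ht => ⟨⟨fun a c => Subtype.ext (Subtype.ext (by
    have t2 : orderOf (t : G) = 2 := by rwa [orderOf_coe]
    obtain ⟨g, hg⟩ := dg_into hi (mul_self_of_two t2)
    have e := h.cz_eq (hA _ hg (‹M.Normal›.conj_mem _ t.2 g))
      (by rw [← MulAut.conj_apply, MulEquiv.orderOf_eq, t2])
    have k : ∀ a : centralizer ({t} : Set M), g * ((a : M) : G) * g⁻¹ ∈ A := fun a =>
      hA _ (e ▸ dg_cj (mem_cz.2 (congrArg Subtype.val (mem_cz.1 a.2)))) (‹M.Normal›.conj_mem _ a.1.2 g)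
    simpa using h.comm (k a) (k c)))⟩⟩
  obtain ⟨T, hT⟩ := FGS.exists_sylow_le_of_not_dvd_index hi
  have hel : ∀ t ∈ (T : Subgroup G), t * t = 1 := fun t ht => by
    by_cases e : t ∈ A
    · obtain ⟨k, hk⟩ := T.isPGroup' ⟨t, ht⟩
      have hk' : (⟨t, AM e⟩ : M) ^ 2 ^ k = 1 := Subtype.ext (congrArg Subtype.val hk :)
      have : ∀ (k : ℕ) (a : M), a ^ 2 ^ k = 1 → a * a = 1 := by
        intro k
        induction k with
        | zero => intro a ha; rw [pow_zero, pow_one] at ha; rw [ha, one_mul]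
        | succ k ih => intro a ha; exact h4 a (ih _ (by rw [← _root_.sq, ← pow_mul, ← pow_succ', ha]))
      exact congrArg Subtype.val (this k _ hk')
    · exact h.sq t (hT ht) e
  have : IsMulCommutative T := ⟨⟨fun a c => Subtype.ext (by
    change (a : G) * c = c * a
    rw [eq_inv_of_mul_eq_one_left (hel _ (mul_mem a.2 c.2)), mul_inv_rev,
      inv_eq_of_mul_eq_one_left (hel a a.2), inv_eq_of_mul_eq_one_left (hel c c.2)])⟩⟩
  obtain ⟨y, ⟨yT, yN⟩, yM⟩ : ∃ y ∈ (T : Subgroup G) ⊓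
      centralizer (normalizer ((T : Subgroup G) : Set G) : Set G), y ∉ M := by
    by_contra hn
    push Not at hn
    refine FGS.not_dvd_index_of_sylow_le T (H := M) ?_ (hM ▸ dvd_rfl)
    rw [← (Transfer.fitting_decomposition_of_hall le_normalizer le_rfl
      (Transfer.sylow_card_coprime_relIndex T le_normalizer)).2]
    refine sup_le (Subgroup.commutator_le.2 fun a _ c _ => ?_) hn
    rw [commutatorElement_def, mul_mem_iff_of_index_two hM, inv_mem_iff]
    exact ⟨fun e => by simpa [mul_assoc] using ‹M.Normal›.conj_mem _ e a⁻¹,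
      fun e => ‹M.Normal›.conj_mem _ e a⟩
  have hz : ∀ g, ⁅y, g⁆ ∈ oddCore G := zstar_elem (S := T) ⟨yT, fun g hg => by
    obtain ⟨v, hv, e⟩ := Transfer.control_normalizer_of_abelian T yT hg
    rw [← e, yN v hv, mul_inv_cancel_right]⟩
  have yy := hel y yT
  have ho := odd_oddCore (G := G)
  have OM : oddCore G ≤ M := fun a ha =>
    mem_of_sq_mem (odd_orderOf ho ha) (mul_self_mem_of_index_two hM a)
  have hNn := PGrp.normal_sup_zpowers hz
  let ψ : M →* G ⧸ (oddCore G ⊔ zpowers y) := (QuotientGroup.mk' _).comp M.subtype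
  have hψ : Function.Surjective ψ := fun g => by
    obtain ⟨g, rfl⟩ := QuotientGroup.mk_surjective g
    by_cases e : g ∈ M
    · exact ⟨⟨g, e⟩, rfl⟩
    · refine ⟨⟨g * y, (mul_mem_iff_of_index_two hM).2 (iff_of_false e yM)⟩, ?_⟩
      change ((g * y : G) : G ⧸ (oddCore G ⊔ zpowers y)) = g
      rw [QuotientGroup.mk_mul, (QuotientGroup.eq_one_iff y).2 (mem_sup_right (mem_zpowers y)), mul_one]
  have k4 : 4 ≤ Nat.card F := Nat.card_eq_fintype_card (α := F) ▸ h3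
  have k1 : (oddCore G).subgroupOf M ≤ π.ker := by
    have := Matrix.ProjectiveSpecialLinearGroup.rank_two_simple k4
    rw [← Subgroup.map_eq_bot_iff]
    refine (IsSimpleGroup.eq_bot_or_eq_top_of_normal _ (Normal.map inferInstance π hπ)).resolve_right
      fun e => Max.L2.not_solvable_PSL k4 ?_
    have := solv_of_odd (K := ((oddCore G).subgroupOf M).map π) (ho.of_dvd_nat
      ((card_map_dvd _ _).trans (card_comap_dvd_of_injective _ _ M.subtype_injective)))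
    rw [e] at this
    exact solvable_of_surjective (f := (⊤ : Subgroup PSL(2, F)).subtype) fun x => ⟨⟨x, trivial⟩, rfl⟩
  have k2 : π.ker.map M.subtype ≤ oddCore G := by
    have c1 : ∀ g ∈ M, ∀ k ∈ π.ker.map M.subtype, g * k * g⁻¹ ∈ π.ker.map M.subtype := by
      rintro g hg _ ⟨k, hk, rfl⟩
      exact ⟨_, π.normal_ker.conj_mem k hk ⟨g, hg⟩, rfl⟩
    refine le_oddCore ⟨fun k hk g => ?_⟩ (by rwa [card_map_of_injective M.subtype_injective])
    by_cases e : g ∈ M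
    · exact c1 g e k hk
    · have := c1 (g * y⁻¹) ((mul_mem_iff_of_index_two hM).2 (iff_of_false e (mt inv_mem_iff.1 yM))) _
        (mul_mem (⟨⟨_, OM (hz k)⟩, k1 (hz k), rfl⟩ : ⁅y, k⁆ ∈ π.ker.map M.subtype) hk)
      convert this using 1
      rw [commutatorElement_def]; group
  have k3 : ψ.ker = π.ker := le_antisymm (fun m hm => k1 (by
    obtain ⟨o, ho', w, hw, e⟩ := (PGrp.mem_sup_of_le_normalizer le_normalizer_of_normal).1
      ((QuotientGroup.eq_one_iff (m : G)).1 hm)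
    rcases (mem_zpowers_two yy).1 hw with rfl | rfl
    · rw [mul_one] at e; exact mem_subgroupOf.2 (e ▸ ho')
    · exact absurd ((mul_mem_cancel_left (OM ho')).1 (e ▸ m.2)) yM))
    fun m hm => (QuotientGroup.eq_one_iff (m : G)).2 (mem_sup_left (k2 ⟨m, hm, rfl⟩))
  refine ⟨oddCore G ⊔ zpowers y, hNn, Or.inr ⟨_, ho, ?_⟩, F, inferInstance, inferInstance, h3, Or.inl
    ⟨(QuotientGroup.quotientKerEquivOfSurjective ψ hψ).symm.trans
      ((QuotientGroup.quotientMulEquivOfEq k3).trans (QuotientGroup.quotientKerEquivOfSurjective π hπ))⟩⟩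
  rw [PGrp.card_sup_zpowers Nat.prime_two (le_normalizer_of_normal (mem_top y))
    (by rw [_root_.sq, yy]; exact one_mem _) (fun e => yM (OM e)), mul_comm]

end DgH

end Cfsg.Agent.SW
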