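import Mathlib
import Cfsg.Agent.SW.DG3

/-! Groups in which a generalised dihedral group is the centralizer of its central involutions:
the case of a unique central involution, and the theorem. -/

set_option autoImplicit false

namespace Cfsg.Agent.SW

open Subgroup Cfsg.Agent.GW Cfsg.Agent.PLocal Cfsg.Agent.Inv
open scoped MatrixGroups Pointwise commutatorElement

universe u

variable {G : Type u} [Group G] [Finite G]

namespace DgH

variable {H A : Subgroup G} {x : G} (h : DgH H A x) {b : G} (hb : b ∈ A) (bb : b * b ≠ 1)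
  {j : G} (hj : j ∈ A) (j2 : orderOf j = 2) (hu : ∀ v ∈ A, orderOf v = 2 → v = j)
include h hb bb hj j2 hu

theorem dih_odd (hi : ¬ 2 ∣ H.index) : DihSyl G := by
  have := Fact.mk Nat.prime_two
  obtain ⟨T, hx, hT⟩ := FGS.exists_sylow_le_of_not_dvd_index' hi (pgroup_zp (h.sq x h.xH h.xA))
    (zpowers_le.2 h.xH)
  have xT := hx (mem_zpowers x)
  have jT : j ∈ (T : Subgroup G) := (Core.isSylowOf_sylow_of_le T hT).normal_le
    (pgroup_zp (mul_self_of_two j2)) (zpowers_le.2 (h.le hj))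
    (h.cz_eq hj j2 ▸ cz_le_normalizer_zpowers j) (mem_zpowers j)
  have : IsMulCommutative (A.subgroupOf T) :=
    ⟨⟨fun a c => Subtype.ext (Subtype.ext (h.comm a.2 c.2))⟩⟩
  have key : ∀ K : Subgroup (A.subgroupOf T), Nat.card K = 2 → K = zpowers ⟨⟨j, jT⟩, hj⟩ := by
    intro K hK
    obtain ⟨v, hv⟩ := exists_prime_orderOf_dvd_card' (G := K) 2 (by rw [hK])
    have e : (v : A.subgroupOf T) = ⟨⟨j, jT⟩, hj⟩ := Subtype.ext (Subtype.ext
      (hu _ v.1.2 (by rw [orderOf_coe, orderOf_coe, orderOf_coe, hv])))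
    refine (PGrp.eq_of_le_of_card_le (zpowers_le.2 (e ▸ v.2)) ?_).symm
    rw [Nat.card_zpowers, ← e, orderOf_coe, hv, hK]
  have : IsCyclic (A.subgroupOf T) := S3380.cyc_of_uniq (T.isPGroup'.to_subgroup _)
    fun K L hK hL => (key K hK).trans (key L hL).symm
  obtain ⟨e⟩ := Classical.DihRecog.equiv_dihedral_of_index_two (A.subgroupOf T)
    (relIndex_eq_two_iff.2 ⟨x, xT, fun y hy => by
      by_cases e : y ∈ A
      · exact Or.inr ⟨e, fun e' => h.xA ((mul_mem_cancel_left e).1 e')⟩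
      · exact Or.inl ⟨h.idx hb bb (hT hy) e h.xH h.xA, e⟩⟩)
    fun g hg => Subtype.ext (h.sq g (hT g.2) hg)
  refine dihSyl_of_equiv T (Finite.one_lt_card_iff_nontrivial.2 ⟨⟨⟨j, jT⟩, hj⟩, 1, fun e => ?_⟩) e
  exact (two_iff.1 j2).1 (congrArg (fun a => (a.1.1 : G)) e)

theorem not_iso {z : G} (hz : z ∈ H) (hz' : z ∉ A) (hc : ∀ g, z * g * z⁻¹ * g⁻¹ ∈ oddCore G) : False := by
  have ho := odd_oddCore (G := G)
  have jj := mul_self_of_two j2
  have z2 := dg_two ho (h.two hz hz')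
  have j2' := dg_two ho j2
  have zc : ∀ g : G ⧸ oddCore G, g * z = z * g := fun g => by
    obtain ⟨g, rfl⟩ := QuotientGroup.mk_surjective g
    have := (QuotientGroup.eq_one_iff _).2 (hc g)
    simp only [QuotientGroup.mk_mul, QuotientGroup.mk_inv] at this
    exact (commutatorElement_eq_one_iff_mul_comm.1 this).symm
  have hA : ∀ a ∈ A, (a : G ⧸ oddCore G) ∈ zpowers (j : G ⧸ oddCore G) := fun a ha => by
    have h1 : a * a ∈ oddCore G := by
      have := inv_mem (hc a)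
      rwa [h.inv hz hz' ha, ← mul_inv_rev, inv_inv] at this
    obtain ⟨k, hk⟩ := odd_orderOf ho h1
    have h2 : a ^ (2 * k + 1) * a ^ (2 * k + 1) = 1 := by
      rw [← (Commute.refl a).mul_pow, ← hk, pow_orderOf_eq_one]
    have h3 : ((a ^ (2 * k + 1) : G) : G ⧸ oddCore G) = a := by
      rw [pow_succ, pow_mul, _root_.sq, QuotientGroup.mk_mul,
        (QuotientGroup.eq_one_iff _).2 (pow_mem h1 k), one_mul]
    rw [← h3]
    by_cases e : a ^ (2 * k + 1) = 1
    · rw [e]; exact one_mem _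
    · rw [hu _ (pow_mem ha _) (two_iff.2 ⟨e, h2⟩)]; exact mem_zpowers _
  have hl : ∀ c ∈ cz (j : G ⧸ oddCore G), ∃ y ∈ H, (y : G ⧸ oddCore G) = c := fun c hc =>
    h.cz_eq hj j2 ▸ dg_lift ho jj hc
  refine (dg_c4 _ (G ⧸ oddCore G) rfl j j2' ?_ (fun c hc => ?_)).elim (dg_ns (solv_of_odd ho) h.ns)
    fun ⟨f⟩ => ?_
  rotate_left 2
  · have h5 : ∀ a : alternatingGroup (Fin 5), (∀ b, b * a = a * b) → a = 1 := by decide +kernel
    refine (two_iff.1 z2).1 (f.map_eq_one_iff.1 (h5 _ fun c => ?_))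
    obtain ⟨c, rfl⟩ := f.surjective c
    rw [← map_mul, zc, map_mul]
  · refine (card_le_of_le (K := zpowers (j : G ⧸ oddCore G) ⊔ zpowers (z : G ⧸ oddCore G))
      fun c hc => ?_).trans ((PGrp.card_sup_zpowers_le two_ne_zero
        (cz_le_normalizer_zpowers _ (mem_cz.2 (zc _).symm))
        (by rw [_root_.sq, mul_self_of_two z2]; exact one_mem _)).trans (by rw [Nat.card_zpowers, j2']))
    obtain ⟨y, hy, rfl⟩ := hl c hc
    by_cases e : y ∈ A
    · exact mem_sup_left (hA y e)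
    · rw [show y = y * z * z by rw [mul_assoc, h.sq z hz hz', mul_one], QuotientGroup.mk_mul]
      exact mul_mem_sup (hA _ (h.idx hb bb hy e hz hz')) (mem_zpowers _)
  · obtain ⟨y, hy, rfl⟩ := hl c hc
    by_cases e : y ∈ A
    · rcases (mem_zpowers_two (mul_self_of_two j2')).1 (hA y e) with e | e <;> rw [e]
      exacts [one_mul _, mul_self_of_two j2']
    · rw [← QuotientGroup.mk_mul, h.sq y hy e, QuotientGroup.mk_one]

theorem dih_even (hi : 2 ∣ H.index) : DihSyl G := by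
  have := Fact.mk Nat.prime_two
  have jj := mul_self_of_two j2
  obtain ⟨T, hT⟩ := (pgroup_zp jj).exists_le_sylow
  have jT := hT (mem_zpowers j)
  have cj := h.cz_eq hj j2
  have key : ∀ z, (T : Subgroup G) ≤ cz z → ∀ g, g * z * g⁻¹ ≠ j := fun z hz g e =>
    FGS.not_dvd_index_of_sylow_le (g • T) (H := H) (by
      rintro _ ⟨t, ht, rfl⟩
      rw [← cj, ← e]
      exact dg_cj (hz ht)) hi
  have key2 : ∀ z, orderOf z = 2 → (T : Subgroup G) ≤ cz z → z ∈ H ∧ z ∉ A := fun z z2 hz =>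
    ⟨cj ▸ mem_cz_comm.1 (hz jT), fun e => key z hz 1 (by simpa using hu z e z2)⟩
  obtain ⟨z, zT, z2, hz⟩ := dg_cen T.isPGroup' le_rfl le_normalizer (fun e => (two_iff.1 j2).1 (by
    rwa [e] at jT))
  obtain ⟨zH, zA⟩ := key2 z z2 hz
  have hB : ∀ a ∈ A, a ∈ (T : Subgroup G) → a ∈ zpowers j := fun a ha aT => by
    have := h.inv zH zA ha
    rw [conj_eq_of_mem_cz' (hz aT)] at this
    by_cases e : a = 1
    · rw [e]; exact one_mem _
    · rw [hu a ha (two_iff.2 ⟨e, mul_eq_one_iff_eq_inv.2 this⟩)]; exact mem_zpowers _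
  have hC : centralizer ({⟨j, jT⟩} : Set T) = (zpowers j ⊔ zpowers z).subgroupOf T := by
    ext t
    rw [mem_subgroupOf, mem_centralizer_singleton_iff, Subtype.ext_iff]
    refine ⟨fun e => ?_, fun e => mem_cz.1 ((sup_le (zpowers_le.2 (self_mem_cz j))
      (zpowers_le.2 (cj ▸ zH))) e)⟩
    have tH : (t : G) ∈ H := cj ▸ mem_cz.2 e
    by_cases e : (t : G) ∈ A
    · exact mem_sup_left (hB _ e t.2)
    · rw [show (t : G) = t * z * z by rw [mul_assoc, h.sq z zH zA, mul_one]]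
      exact mul_mem_sup (hB _ (h.idx hb bb tH e zH zA) (mul_mem t.2 zT)) (mem_zpowers _)
  have h4 : Nat.card (centralizer ({⟨j, jT⟩} : Set T)) = 4 := by
    rw [hC, Nat.card_congr (subgroupOfEquivOfLe (sup_le hT (zpowers_le.2 zT))).toEquiv,
      PGrp.card_sup_zpowers Nat.prime_two (cz_le_normalizer_zpowers _ (cj ▸ zH))
        (by rw [_root_.sq, mul_self_of_two z2]; exact one_mem _) fun e => zA (zpowers_le.2 hj e),
      Nat.card_zpowers, j2]
  rcases S3224.result T.isPGroup' ⟨j, jT⟩ (by rw [← orderOf_coe, j2]) h4 with ⟨n, ⟨e⟩⟩ | hq | h5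
  · refine dihSyl_of_equiv T ?_ e
    have h1 := card_le_card_group (centralizer ({⟨j, jT⟩} : Set T))
    rw [h4, Nat.card_congr e.toEquiv, DihedralGroup.nat_card] at h1
    omega
  · exfalso
    obtain ⟨u, y, m, hq⟩ := exists_qd hq
    have hw : (T : Subgroup G) ≤ cz (u ^ 2 ^ (m + 2)) := fun t ht => mem_cz.2 (hq.commute_z ht)
    obtain ⟨wH, wA⟩ := key2 _ hq.z_two hw
    refine h.not_iso hb bb hj j2 hu wH wA (zstar_elem (S := T) ⟨hq.z_mem, fun g hg => ?_⟩)
    refine (hq.two_cases hg (by rw [← MulAut.conj_apply, MulEquiv.orderOf_eq, hq.z_two])).resolve_right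
      fun ⟨s, _, hs⟩ => ?_
    rcases hq.two_cases jT j2 with e | ⟨r, _, hr⟩
    · exact wA (e ▸ hj)
    · refine key _ hw (r * s⁻¹ * g) ?_
      rw [← hr, ← inv_mul_cancel_left s y, ← mul_inv_cancel_right (s * y) s⁻¹, hs]
      group
  · exfalso
    have e := eq_top_of_card_eq _ (h4.trans h5.symm)
    refine key j (fun t ht => mem_cz.2 ?_) 1 (by simp)
    exact congrArg Subtype.val (mem_centralizer_singleton_iff.1 (e.ge (mem_top (⟨t, ht⟩ : T))))

theorem rank_one : DgG G := by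
  have cj := h.cz_eq hj j2
  refine ⟨oddCore G, inferInstance, Or.inl odd_oddCore, dg_dih ((em _).elim (h.dih_even hb bb hj j2 hu)
    (h.dih_odd hb bb hj j2 hu)) h.ns j2 (fun a ha c hc aa cc => ?_) fun y hy => ?_⟩
  · rw [cj] at ha hc
    exact h.comm (by_contra fun e => aa (h.sq a ha e)) (by_contra fun e => cc (h.sq c hc e))
  · rw [cj] at hy
    have xx := h.sq x h.xH h.xA
    by_cases e : y ∈ A
    · exact ⟨y * x, x, h.sq _ (mul_mem hy h.xH) fun e' => h.xA ((mul_mem_cancel_left e).1 e'), xx,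
        by rw [mul_assoc, xx, mul_one]⟩
    · exact ⟨y, 1, h.sq y hy e, one_mul _, (mul_one _).symm⟩

end DgH

theorem DgH.main {H A : Subgroup G} {x : G} (h : DgH H A x) (h4 : 4 ∣ Nat.card H) : DgG G := by
  have := Fact.mk Nat.prime_two
  by_cases he : ∀ y ∈ H, y * y = 1
  · exact h.elem he
  push Not at he
  obtain ⟨b, hb', bb⟩ := he
  have hb : b ∈ A := by_contra fun e => bb (h.sq b hb' e)
  rw [PGrp.card_eq_card_mul_relIndex h.le, h.rel hb bb] at h4
  obtain ⟨j, j2⟩ := exists_prime_orderOf_dvd_card' (G := A) 2 (by omega)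
  rw [← orderOf_coe] at j2
  by_cases hu : ∀ v ∈ A, orderOf v = 2 → v = j
  · exact h.rank_one hb bb j.2 j2 hu
  · push Not at hu
    obtain ⟨v, hv, v2, hne⟩ := hu
    exact h.rank_two hb bb hv j.2 v2 j2 hne

end Cfsg.Agent.SW
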