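import Mathlib
import Cfsg.Agent.Max.L2f
import Cfsg.Agent.Phan.Aut
import Cfsg.Agent.DP.Sol
import Cfsg.Agent.JT.Loc
import Cfsg.Agent.GW.QGrp

/-! Groups acting on a normal `SL₂(p)`. -/

set_option autoImplicit false
set_option linter.unusedSectionVars false

namespace Cfsg.Agent.SW

open Subgroup Matrix Cfsg.Agent.GW Cfsg.Agent.LocalEven Cfsg.Agent.BG Cfsg.Agent.Gs Cfsg.Agent.Max.L2
  Cfsg.Agent.Classical Cfsg.Agent.Classical.AutPSL Cfsg.Agent.Classical.AutPSL2 Cfsg.Agent.DP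
open scoped MatrixGroups

variable {F : Type*} [Field F] [Fintype F]

theorem aut_dA (hp : (Fintype.card F).Prime) (β : MulAut PSL(2, F)) : β ∈ (dA : GL (Fin 2) F →* _).range := by
  have := Fact.mk hp
  obtain ⟨ρ, h1, -⟩ := exists_hom_two (F := F)
  have := (Nat.card_eq_one_iff_unique.1 (card_ringAut (F := F) (p := Fintype.card F) (f := 1) (by simp))).1
  exact h1 ▸ Subsingleton.elim _ _

theorem exists_psi {X : Type*} [Group X] {L : Subgroup X} [L.Normal] (hp : (Fintype.card F).Prime)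
    (e : L ≃* SL(2, F)) : ∃ ψ : X →* PGL(2, F), ψ.ker = 𝐂(L) ∧ ∀ l : L, ψ l = SpecialLinearGroup.toPGL (e l) := by
  let c : X →* MulAut SL(2, F) := (MulAut.congr e).toMonoidHom.comp MulAut.conjNormal
  refine ⟨pglEquiv.symm.toMonoidHom.comp (((autQ _).comp c).codRestrict _ fun g => aut_dA hp _),
    ext fun g => ?_, fun l => pglEquiv.symm_apply_eq.2 (Subtype.ext ?_)⟩
  · rw [MonoidHom.mem_ker, MonoidHom.comp_apply, MulEquiv.coe_toMonoidHom, map_eq_one_iff _ pglEquiv.symm.injective,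
      Subtype.ext_iff]
    change autQ _ (MulAut.congr e _) = 1 ↔ _
    rw [map_eq_one_iff _ Phan.autQ_inj, map_eq_one_iff _ (MulAut.congr e).injective]
    refine ⟨fun h x hx => ?_, fun h => MulEquiv.ext fun x => Subtype.ext ?_⟩
    · exact (mul_inv_eq_iff_eq_mul.1 (congrArg Subtype.val (DFunLike.congr_fun h ⟨x, hx⟩))).symm
    · exact mul_inv_eq_iff_eq_mul.2 (h x x.2).symm
  · refine Eq.trans ?_ ((pglEquiv_mk _).trans (dA_toGL (e l))).symm
    refine MulEquiv.ext fun x => ?_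
    obtain ⟨x, rfl⟩ := QuotientGroup.mk_surjective x
    obtain ⟨x, rfl⟩ := e.surjective x
    change ((e (MulAut.conjNormal (l : X) (e.symm (e x))) : SL(2, F)) : PSL(2, F)) = (e l * e x * (e l)⁻¹ :)
    rw [e.symm_apply_apply, ← map_inv, ← map_mul, ← map_mul]
    rfl

theorem LL_le {J : Subgroup PGL(2, F)} (h : ∀ s : SL(2, F), (∃ c, s = SL2Basic.upper c ∨ s = SL2Basic.lower c) →
    SpecialLinearGroup.toPGL s ∈ J) : LL F ≤ J := by
  rintro _ ⟨s, rfl⟩
  obtain ⟨s, rfl⟩ := QuotientGroup.mk_surjective s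
  exact (SL2Basic.eq_top_of_upper_lower (J.comap SpecialLinearGroup.toPGL) (fun c => h _ ⟨c, .inl rfl⟩)
    fun c => h _ ⟨c, .inr rfl⟩).ge (mem_top s)

theorem LL_le' (h2 : (2 : F) ≠ 0) {J : Subgroup PGL(2, F)} (h : ∀ s : SL(2, F),
    (∃ c, s = SL2Basic.upper c ∨ s = SL2Basic.lower c) → SpecialLinearGroup.toPGL (s * s) ∈ J) : LL F ≤ J :=
  LL_le <| by
  have := NeZero.mk h2
  rintro _ ⟨c, rfl | rfl⟩ <;> rw [← add_halves c]
  · rw [SL2Basic.upper_add]; exact h _ ⟨_, .inl rfl⟩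
  · rw [SL2Basic.lower_add]; exact h _ ⟨_, .inr rfl⟩

theorem LL_le_of_sq (h2 : (2 : F) ≠ 0) {J : Subgroup PGL(2, F)} (h : ∀ g, g * g ∈ J) : LL F ≤ J :=
  LL_le' h2 fun s _ => by rw [map_mul]; exact h _

theorem LL_le_comm (h2 : (2 : F) ≠ 0) : LL F ≤ _root_.commutator PGL(2, F) := LL_le' h2 fun s ⟨c, hs⟩ => by
  let d : GL (Fin 2) F := ⟨!![-1, 0; 0, 1], !![-1, 0; 0, 1], by simp [one_fin_two], by simp [one_fin_two]⟩
  have h : SpecialLinearGroup.toGL s * d * SpecialLinearGroup.toGL s = d := by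
    rcases hs with rfl | rfl <;> refine Units.ext ?_ <;> simp [d, SL2Basic.upper, SL2Basic.lower]
  have := commutator_mem_commutator (mem_top (ProjGenLinGroup.mk (SpecialLinearGroup.toGL s)))
    (mem_top (ProjGenLinGroup.mk d))
  rw [← map_commutatorElement, commutatorElement_def] at this
  nth_rw 1 [← h] at this
  rwa [show ∀ a b : GL (Fin 2) F, a * (a * b * a) * a⁻¹ * b⁻¹ = a * a from fun a b => by group, ← map_mul] at this

theorem prime_of_cy {G : Type*} [Group G] (ho : Odd (Fintype.card F)) (hc : ∀ r, r.Prime → r ≠ 2 → Cy r G)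
    (f : SL(2, F) →* G) (hf : f.ker ≤ center _) : (Fintype.card F).Prime := by
  obtain ⟨p, hp⟩ := CharP.exists F
  have := Fact.mk (CharP.char_is_prime F p)
  obtain ⟨n, pp, hq⟩ := FiniteField.card F p
  let u : Multiplicative F →* G := f.comp (MonoidHom.mk' (fun c => SL2Basic.upper c.toAdd) fun a b =>
    SL2Basic.upper_add _ _)
  have hu : Function.Injective u := (injective_iff_map_eq_one _).2 fun a ha => by
    rcases SL2Basic.mem_center_iff.1 (hf ha) with h | h
    · exact SL2Basic.upper_injective (K := F) (h.trans SL2Basic.upper_zero.symm)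
    · exact absurd (by simpa [SL2Basic.upper] using congrArg (fun s : SL(2, F) => s 0 0 + 1) h)
        (one_add_one_eq_two (R := F) ▸ SL2Basic.two_ne_zero_of_odd ho)
  have := hc p pp (by rintro rfl; exact absurd (ho.of_dvd_nat (hq ▸ dvd_pow_self 2 n.ne_zero)) (by decide))
    u.range (.of_card ((Nat.card_congr (MonoidHom.ofInjective hu).toEquiv).symm.trans (by simpa using hq)))
  have := isCyclic_of_surjective _ (MonoidHom.ofInjective hu).symm.surjective
  obtain ⟨g, hg⟩ := this.exists_ofOrder_eq_natCard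
  have h1 : orderOf g ∣ p := orderOf_dvd_of_pow_eq_one (by
    rw [← ofAdd_toAdd g, ← ofAdd_nsmul, nsmul_eq_mul, CharP.cast_eq_zero, zero_mul, ofAdd_zero])
  rw [hg, Nat.card_eq_fintype_card, Fintype.card_multiplicative] at h1
  exact ((Nat.dvd_prime pp).1 h1).resolve_left Fintype.one_lt_card.ne' ▸ pp

theorem bar {X : Type*} [Group X] [Finite X] (hO : oddCore X = ⊥) {S : Sylow 2 X} {x y : X} {m : ℕ}
    (h : Inv.QD (S : Subgroup X) x y m) (hz : ∀ g, g ∈ cz (x ^ 2 ^ (m + 2))) (ho : Odd (Fintype.card F))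
    (hp : (Fintype.card F).Prime) (e : _root_.commutator X ≃* SL(2, F)) :
    ∃ ψ : X →* PGL(2, F), Function.Surjective ψ ∧ ψ.ker = zpowers (x ^ 2 ^ (m + 2)) := by
  set z := x ^ 2 ^ (m + 2)
  set L := _root_.commutator X
  obtain ⟨ψ, hk, hL⟩ := exists_psi hp e
  have x2 : x * x ∈ zpowers (x * x) := mem_zpowers _
  have zL : z ∈ L := by
    have := pow_mem (commutator_mem_commutator (mem_top (x * x)) (mem_top y)) (2 ^ m)
    rwa [commutatorElement_def, mul_assoc, mul_assoc, ← mul_assoc y, ← conj_inv, h.inverts x2, inv_inv,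
      ← sq, ← sq, ← pow_mul, ← pow_mul, show 2 * (2 * 2 ^ m) = 2 ^ (m + 2) by ring] at this
  have xL : x * x ∈ L := by
    have : _ ∈ L := commutator_mem_commutator (mem_top x) (mem_top y)
    rw [commutatorElement_def, mul_assoc, mul_assoc, ← mul_assoc y, ← conj_inv] at this
    rcases h.conj_cases (mem_zpowers x) with k | k <;> rw [k] at this
    · rwa [inv_inv] at this
    · rwa [_root_.mul_inv_rev, inv_inv, ← mul_assoc, mem_cz.1 (inv_mem (mem_cz_comm.1 (hz x))) |>.symm, mul_assoc,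
        mul_mem_cancel_left (inv_mem zL)] at this
  have h2 := SL2Basic.two_ne_zero_of_odd ho
  obtain ⟨t, ⟨tS, tL⟩, tx⟩ : ∃ t ∈ (S : Subgroup X) ⊓ L, t ∉ zpowers x := by
    by_contra! k
    let T := (Core.isSylowOf_sylow_inf_normal S L).toSylow
    refine not_npc_of_no_index_two (G := L) (fun H hH => (sl2_facts ho e).1 H hH) ?_
      (Block.hasNormalPComplement_two_of_isCyclic T ?_)
    · exact (even_iff_two_dvd.2 (h.z_two ▸ orderOf_dvd_natCard L zL))
    · have := isCyclic_of_le (show (S : Subgroup X) ⊓ L ≤ _ from k)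
      exact isCyclic_of_surjective _ (subgroupOfEquivOfLe inf_le_right).symm.surjective
  have k1 : (S : Subgroup X) ⊓ 𝐂(L) = zpowers z := le_antisymm (fun c ⟨cS, cC⟩ => by
      have hc : c ∈ zpowers x := by_contra fun k => by
        have := (h.toMC.change cS k).inverts x2
        rw [← cC _ xL, mul_inv_cancel_right, eq_inv_iff_mul_eq_one] at this
        have := Nat.le_of_dvd four_pos (orderOf_dvd_of_pow_eq_one (x := x) (n := 4) (by
          rw [← this, pow_succ, pow_succ, sq, mul_assoc]))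
        rw [h.ord, pow_add, pow_add] at this
        have := Nat.two_pow_pos m
        omega
      rcases (h.toMC.change tS tx).eq_of_commute hc (cC t tL).symm with rfl | rfl
      exacts [one_mem _, mem_zpowers _])
    (zpowers_le.2 ⟨h.z_mem, fun g _ => mem_cz.1 (hz g)⟩)
  have k2 : 𝐂(L) = zpowers z := le_antisymm (by
      have := JT.le_oOf_sup (k1 ▸ Core.isSylowOf_sylow_inf_normal S 𝐂(L)) fun g _ _ => (cent_zpowers z).ge (hz g)
      rwa [show oOf 𝐂(L) = ⊥ from le_bot_iff.1 ((Core.le_pPrimeCore (normalizer_eq_top_iff.1 (top_le_iff.1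
        ((normalizer_eq_top _).ge.trans (normalizer_le_normalizer_oOf _)))) (Nat.coprime_two_right.2
          (odd_oOf _))).trans hO.le), bot_sup_eq] at this)
    (k1 ▸ inf_le_right)
  have hr : ∀ g ∈ LL F, ∃ l ∈ L, ψ l = g := by
    rintro _ ⟨s, rfl⟩
    obtain ⟨s, rfl⟩ := QuotientGroup.mk_surjective s
    exact ⟨_, (e.symm s).2, (hL _).trans (congrArg _ (e.apply_symm_apply s))⟩
  have hy : ψ y ∉ LL F := fun k => by
    obtain ⟨l, hl, k⟩ := hr _ k
    have yL : y ∈ L := (mul_mem_cancel_left (inv_mem hl)).1 (zpowers_le.2 zL (k2 ▸ hk ▸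
      show ψ (l⁻¹ * y) = 1 by rw [map_mul, map_inv, k, inv_mul_cancel]))
    refine h.ny (zpowers_le.2 (Inv.MC.z_memX x _) (k2.le (hk.le (show ψ (⟨y, yL⟩ : L) = 1 from ?_))))
    rw [hL, SL2Basic.toPGL_eq_one_iff]
    exact SL2Basic.eq_of_mul_self_eq_one h2 (by rw [← map_mul, ← map_one e]; exact congrArg _ (Subtype.ext h.yy))
  refine ⟨ψ, fun g => ?_, hk.trans k2⟩
  by_cases k : g ∈ LL F
  · exact (hr g k).imp fun l hl => hl.2
  · obtain ⟨l, -, hl⟩ := hr _ (mul_mem_LL k hy)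
    exact ⟨l * y⁻¹, by rw [map_mul, hl, map_inv, mul_inv_cancel_right]⟩

end Cfsg.Agent.SW
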