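import Mathlib
import Cfsg.Agent.Dih.BSW2
import Cfsg.Agent.Inv.W3b
import Cfsg.Agent.BG.AmbCent

/-! Two orthogonal induced generalized characters of norm three. -/

set_option autoImplicit false
set_option linter.unusedSectionVars false

namespace Cfsg.Agent.SW

open Subgroup Cfsg.Agent.Inv Cfsg.Agent.Char Cfsg.Agent.Block Cfsg.Agent.Char.Ind Cfsg.Agent.Dih
open scoped ComplexConjugate _root_.Classical

theorem comb {ι : Type*} [Fintype ι] {v w : ι → ℤ} {o : ι} (vo : v o = 1) (wo : w o = 1)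
    (vv : ∑ i, v i * v i = 3) (ww : ∑ i, w i * w i = 3) (vw : ∑ i, v i * w i = 0) :
    ∃ s a b, (v s = 1 ∨ v s = -1) ∧ w s = -v s ∧ (v a = 1 ∨ v a = -1) ∧ (w b = 1 ∨ w b = -1) ∧
      (∀ F : ι → ℂ, ∑ i, v i * F i = F o + v s * F s + v a * F a) ∧
      ∀ F : ι → ℂ, ∑ i, w i * F i = F o + w s * F s + w b * F b := by
  have key : ∀ {v : ι → ℤ}, v o = 1 → ∑ i, v i * v i = 3 → ∀ s, s ≠ o → v s ≠ 0 → (v s = 1 ∨ v s = -1) ∧
      ∃ a, (v a = 1 ∨ v a = -1) ∧ ∀ F : ι → ℂ, ∑ i, v i * F i = F o + v s * F s + v a * F a := by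
    intro v vo vv s so vs
    have n2 : [o, s].Nodup := by simp [so.symm]
    have h1 : v s = 1 ∨ v s = -1 := by
      have := W3.sq_le (f := v) n2
      simp only [List.map_cons, List.map_nil, List.sum_cons, List.sum_nil, vo, vv] at this
      exact (W3.tri (by omega)).resolve_left vs
    obtain ⟨a, ha, h2⟩ := (W3.next (f := v) n2 (k := 1) (by rcases h1 with h | h <;> simp [vv, vo, h])).2
      one_pos (by norm_num)
    have n3 : (a :: [o, s]).Nodup := List.nodup_cons.2 ⟨ha, n2⟩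
    have h3 := (W3.next (f := v) n3 (k := 0) (by
      rcases h1 with h | h <;> rcases h2 with h' | h' <;> simp [vv, vo, h, h'])).1 rfl
    refine ⟨h1, a, h2, fun F => ?_⟩
    rw [W3.sum_supp n3 h3]
    simp [vo]; ring
  obtain ⟨s, so, hs⟩ : ∃ s, s ≠ o ∧ v s * w s < 0 := by
    by_contra! h
    have := Finset.add_sum_erase _ (fun i => v i * w i) (Finset.mem_univ o)
    have h2 := Finset.sum_nonneg (s := Finset.univ.erase o) fun i hi => h i (Finset.ne_of_mem_erase hi)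
    simp only [vo, wo, vw] at this
    omega
  obtain ⟨h1, a, h2, h3⟩ := key vo vv s so fun e => by simp [e] at hs
  obtain ⟨k1, b, k2, k3⟩ := key wo ww s so fun e => by simp [e] at hs
  refine ⟨s, a, b, h1, ?_, h2, k2, h3, k3⟩
  rcases h1 with h | h <;> rcases k1 with k | k <;> simp [h, k] at hs ⊢

variable {G : Type*} [Group G] [Fintype G]

structure DT (y : G) (l : centralizer ({y} : Set G) →* ℂˣ) : Prop where
  yy : y * y ≠ 1
  gen : ∀ c, l c ≠ 1 → y ∈ zpowers (c : G)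
  aut : ∀ g, g * y * g⁻¹ ∈ zpowers y → g * y * g⁻¹ = y ∨ g * y * g⁻¹ = y⁻¹
  inv : ∀ u, u * y * u⁻¹ = y⁻¹ → ∀ c d : centralizer ({y} : Set G), u * c * u⁻¹ = d → l d = (l c)⁻¹
  ex : ∃ u, u * y * u⁻¹ = y⁻¹
  sq : ∃ c, l c * l c ≠ 1

/-- The involutions inverting `y`. -/
def ivs (y : G) : Set G := {u | orderOf u = 2 ∧ u * y * u⁻¹ = y⁻¹}

noncomputable def th {y : G} (l : centralizer ({y} : Set G) →* ℂˣ) : G → ℂ := indFun _ fun c => 1 - l c

theorem th_gen {y : G} (l : centralizer ({y} : Set G) →* ℂˣ) : IsGeneralizedCharacter G (th l) :=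
  IndRep.isGenChar_indFun _ (isGenChar_sub (isChar_isGenChar (isIrr_isChar isIrr_one))
    (isChar_isGenChar (isChar_linear l)))

theorem conj_lin {C : Type*} [Group C] [Finite C] (l : C →* ℂˣ) (c : C) : conj (l c : ℂ) = ((l c)⁻¹ : ℂˣ) := by
  rw [← isChar_inv (isChar_linear l), map_inv]

theorem sum_lin {C : Type*} [Group C] [Fintype C] {l : C →* ℂˣ} {c : C} (h : l c ≠ 1) : ∑ c, (l c : ℂ) = 0 :=
  sum_hom_units_eq_zero ((Units.coeHom ℂ).comp l) fun e => h (Units.ext (DFunLike.congr_fun e c))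

omit [Fintype G] in
theorem mem_of_inv {y u c : G} (hu : u * y * u⁻¹ = y⁻¹) (hc : c ∈ centralizer ({y} : Set G)) :
    u * c * u⁻¹ ∈ centralizer ({y} : Set G) := by
  rw [mem_centralizer_singleton_iff] at hc ⊢
  calc _ = u * c * u⁻¹ * (u * y * u⁻¹)⁻¹ := by rw [hu, inv_inv]
    _ = u * (c * y⁻¹) * u⁻¹ := by group
    _ = (u * y * u⁻¹)⁻¹ * (u * c * u⁻¹) := by rw [(show Commute c y from hc).inv_right]; group
    _ = _ := by rw [hu, inv_inv]

omit [Fintype G] in
theorem inv_inverts {y u : G} (hu : u * y * u⁻¹ = y⁻¹) : u⁻¹ * y * u⁻¹⁻¹ = y⁻¹ :=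
  calc _ = u⁻¹ * y⁻¹⁻¹ * u := by group
    _ = u⁻¹ * (u * y * u⁻¹)⁻¹ * u := by rw [hu]
    _ = _ := by group

omit [Fintype G] in
theorem mul_inv_mem {y u w : G} (hu : u * y * u⁻¹ = y⁻¹) (hw : w * y * w⁻¹ = y⁻¹) :
    u * w ∈ centralizer ({y} : Set G) := by
  rw [mem_centralizer_singleton_iff, ← mul_inv_eq_iff_eq_mul]
  calc _ = u * (w * y * w⁻¹) * u⁻¹ := by group
    _ = (u * y * u⁻¹)⁻¹ := by rw [hw]; group
    _ = _ := by rw [hu, inv_inv]

namespace DT

variable {y : G} {l : centralizer ({y} : Set G) →* ℂˣ} (h : DT y l)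
include h

theorem ne_inv : y ≠ y⁻¹ := fun e => h.yy (eq_inv_iff_mul_eq_one.1 e)

theorem ti {c : centralizer ({y} : Set G)} (hc : l c ≠ 1) {x : G} (hx : y ∈ zpowers (x * c * x⁻¹)) :
    x * y * x⁻¹ = y ∨ x * y * x⁻¹ = y⁻¹ := by
  obtain ⟨k, hk⟩ := h.gen c hc
  have h1 : x * y * x⁻¹ ∈ zpowers (x * c * x⁻¹) := ⟨k, by simp only [conj_zpow] at hk ⊢; rw [hk]⟩
  have := BG.Amb.eq_of_card_eq_of_cyclic (inferInstance : IsCyclic (zpowers (x * c * x⁻¹))) (zpowers_le.2 h1)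
    (zpowers_le.2 hx) (by rw [Nat.card_zpowers, Nat.card_zpowers, Inv.orderOf_conj])
  exact h.aut x (this ▸ mem_zpowers _)

theorem th_val {c : centralizer ({y} : Set G)} (hc : l c ≠ 1) : th l c = 2 - l c - ((l c)⁻¹ : ℂˣ) := by
  obtain ⟨s, hs⟩ := h.ex
  have e : ∀ x : G, extendByZero _ (fun c => 1 - (l c : ℂ)) (x * c * x⁻¹) =
      (if x ∈ centralizer ({y} : Set G) then 1 - (l c : ℂ) else 0) +
        if x * s ∈ centralizer ({y} : Set G) then 1 - (((l c)⁻¹ : ℂˣ) : ℂ) else 0 := by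
    intro x
    have i1 : x ∈ centralizer ({y} : Set G) ↔ x * y * x⁻¹ = y := by
      rw [mem_centralizer_singleton_iff, mul_inv_eq_iff_eq_mul]
    have i2 : x * s ∈ centralizer ({y} : Set G) ↔ x * y * x⁻¹ = y⁻¹ := by
      refine ⟨fun k => ?_, fun k => mul_inv_mem k hs⟩
      rw [mem_centralizer_singleton_iff, ← mul_inv_eq_iff_eq_mul] at k
      calc _ = (x * (s * y * s⁻¹) * x⁻¹)⁻¹ := by rw [hs]; group
        _ = (x * s * y * (x * s)⁻¹)⁻¹ := by group
        _ = _ := by rw [k]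
    by_cases h2 : x * y * x⁻¹ = y
    · rw [if_pos (i1.2 h2), if_neg fun e => h.ne_inv (h2.symm.trans (i2.1 e)), add_zero,
        extendByZero_of_mem _ _ (mul_mem (mul_mem (i1.2 h2) c.2) (inv_mem (i1.2 h2))),
        show (⟨x * c * x⁻¹, _⟩ : centralizer ({y} : Set G)) = ⟨x, i1.2 h2⟩ * c * ⟨x, i1.2 h2⟩⁻¹ from rfl, map_mul,
        map_mul, map_inv, mul_right_comm, mul_inv_cancel, one_mul]
    by_cases h3 : x * y * x⁻¹ = y⁻¹
    · rw [if_neg (mt i1.1 h2), if_pos (i2.2 h3), zero_add, extendByZero_of_mem _ _ (mem_of_inv h3 c.2),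
        h.inv x h3 c ⟨_, _⟩ rfl]
    rw [if_neg (mt i1.1 h2), if_neg (mt i2.1 h3), add_zero, extendByZero_eq_dite]
    split_ifs with k
    · rw [by_contra fun k' => (h.ti hc (h.gen ⟨_, k⟩ k')).elim h2 h3]; simp
    · rfl
  have c1 : (Finset.univ.filter fun x : G => x ∈ centralizer ({y} : Set G)).card =
      Nat.card (centralizer ({y} : Set G)) := by
    rw [Nat.card_eq_fintype_card, Fintype.card_subtype]
  have c2 : (Finset.univ.filter fun x : G => x * s ∈ centralizer ({y} : Set G)).card =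
      Nat.card (centralizer ({y} : Set G)) := by
    rw [← c1]
    exact Finset.card_equiv (Equiv.mulRight s) (by simp)
  have c3 : (Nat.card (centralizer ({y} : Set G)) : ℂ) ≠ 0 := Nat.cast_ne_zero.2 Nat.card_pos.ne'
  rw [th, indFun_apply']
  simp only [e, Finset.sum_add_distrib, ← Finset.sum_filter, Finset.sum_const, c1, c2, nsmul_eq_mul]
  field_simp
  ring

theorem nt : ∃ c, l c ≠ 1 := h.sq.imp fun c hc e => hc (by rw [e, one_mul])

theorem norm : classInner (th l) (th l) = 3 := by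
  obtain ⟨c, hc⟩ := h.nt
  obtain ⟨d, hd⟩ := h.sq
  have c3 : (Nat.card (centralizer ({y} : Set G)) : ℂ) ≠ 0 := Nat.cast_ne_zero.2 Nat.card_pos.ne'
  nth_rw 1 [th]
  rw [inner_indFun_left _ _ (isGenChar_classFun (th_gen l)), classInner_def,
    Finset.sum_congr rfl (g := fun c => 3 - (l⁻¹ c : ℂ) - 3 * l c + (l * l) c) fun c _ => ?_]
  · simp only [Finset.sum_add_distrib, Finset.sum_sub_distrib, ← Finset.mul_sum, sum_lin hc,
      sum_lin (l := l * l) hd, sum_lin (l := l⁻¹) (c := c) (by simpa using hc), Finset.sum_const, Finset.card_univ,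
      ← Nat.card_eq_fintype_card, nsmul_eq_mul]
    field_simp
    ring
  by_cases k : l c = 1
  · simp [k]
  · simp only [h.th_val k, map_sub, conj_lin, ← map_inv, inv_inv, map_ofNat]
    simp
    field_simp
    ring

theorem one : classInner (th l) (oneIrr G).1 = 1 := by
  obtain ⟨c, hc⟩ := h.nt
  have c3 : (Nat.card (centralizer ({y} : Set G)) : ℂ) ≠ 0 := Nat.cast_ne_zero.2 Nat.card_pos.ne'
  rw [th, inner_indFun_left _ _ (irr_classFun _), classInner_def]
  simp [Finset.sum_sub_distrib, sum_lin hc, ← Nat.card_eq_fintype_card, c3]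

theorem zero {g : G} (hg : ∀ x, y ∉ zpowers (x⁻¹ * g * x)) : th l g = 0 :=
  indFun_eq_zero_of_forall _ _ fun x hx => by rw [by_contra fun k => hg x (h.gen ⟨_, hx⟩ k)]; simp

theorem zero_sq {g : G} (hg : g * g = 1) : th l g = 0 := h.zero fun x ⟨k, hk⟩ => h.yy (by
  simp only [← hk, ← (Commute.refl _).mul_zpow]
  rw [show x⁻¹ * g * x * (x⁻¹ * g * x) = x⁻¹ * (g * g) * x by group, hg]; simp)

theorem pair {z : G} (hz : orderOf z = 2) (h1 : ∀ u, orderOf u = 2 → IsConj z u) :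
    Nat.card (centralizer ({y} : Set G)) * classInner (pairs z z) (th l) = (ivs y).ncard ^ 2 := by
  obtain ⟨d, hd⟩ := h.sq
  have c3 : (Nat.card (centralizer ({y} : Set G)) : ℂ) ≠ 0 := Nat.cast_ne_zero.2 Nat.card_pos.ne'
  have e : ∀ x, classInd z x = if orderOf x = 2 then 1 else 0 := fun x => by
    rw [classInd_apply]
    exact if_congr ⟨fun e => by rw [← orderOf_of_isConj e, hz], h1 x⟩ rfl rfl
  let T := Finset.univ.filter (· ∈ ivs y)
  let L := extendByZero _ fun c => (((l c)⁻¹ : ℂˣ) : ℂ)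
  have hT : ∀ x ∈ T, ∑ w ∈ T, L (x * w) = 0 := fun x hx => by
    have hx := (Finset.mem_filter.1 hx).2.2
    have dy : (d : G) * y * (d : G)⁻¹ = y := mul_inv_eq_iff_eq_mul.2 (mem_centralizer_singleton_iff.1 d.2)
    have k : ∑ w ∈ T, L (x * w) = ∑ w ∈ T, l d * l d * L (x * w) := by
      refine (Finset.sum_equiv (MulAut.conj (d : G)).toEquiv (fun w => ?_) fun w hw => ?_).symm
      · simp only [T, ivs, Finset.mem_filter, Finset.mem_univ, true_and, Set.mem_setOf_eq, MulEquiv.toEquiv_eq_coe,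
          EquivLike.coe_coe, MulAut.conj_apply, Inv.orderOf_conj]
        refine and_congr_right fun _ => ?_
        generalize (d : G) = d at dy
        have : d * w * d⁻¹ * (d * y * d⁻¹) * (d * w * d⁻¹)⁻¹ = (d * y * d⁻¹)⁻¹ ↔ w * y * w⁻¹ = y⁻¹ := by
          rw [show d * w * d⁻¹ * (d * y * d⁻¹) * (d * w * d⁻¹)⁻¹ = d * (w * y * w⁻¹) * d⁻¹ by group,
            show (d * y * d⁻¹)⁻¹ = d * y⁻¹ * d⁻¹ by group, mul_left_inj, mul_right_inj]
        rw [← this, dy]
      · have hw := (Finset.mem_filter.1 hw).2.2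
        have m := mul_inv_mem hx hw
        have m2 := mem_of_inv hx d.2
        simp only [L, MulEquiv.toEquiv_eq_coe, EquivLike.coe_coe, MulAut.conj_apply]
        rw [show x * (d * w * (d : G)⁻¹) = (⟨_, m2⟩ * ⟨_, m⟩ * d⁻¹ : centralizer ({y} : Set G)) by simp; group,
          extendByZero_coe, extendByZero_of_mem _ _ m, map_mul, map_mul, map_inv, h.inv x hx d ⟨_, m2⟩ rfl]
        simp; ring
    rw [← Finset.mul_sum, ← sub_eq_zero, ← one_sub_mul, mul_eq_zero, sub_eq_zero] at k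
    exact k.resolve_left fun k => hd (Units.ext k.symm)
  rw [th, inner_indFun_right _ _ (classFun_pairs z z), classInner_def, mul_inv_cancel_left₀ c3]
  have k : ∀ c : centralizer ({y} : Set G), pairs z z c * conj (1 - l c : ℂ) =
      ∑ x ∈ T, if x⁻¹ * c ∈ T then 1 - L c else 0 := fun c => by
    simp only [L, extendByZero_coe, map_sub, map_one, conj_lin]
    by_cases k : l c = 1
    · simp [k]
    simp only [pairs, e, T, Finset.sum_filter, Finset.sum_mul, ite_mul, one_mul, zero_mul, Finset.mem_filter,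
      Finset.mem_univ, true_and]
    refine Finset.sum_congr rfl fun x _ => ?_
    rw [← ite_and, ← ite_and]
    refine if_congr ⟨fun ⟨k1, k2⟩ => ?_, fun ⟨k1, k2⟩ => ⟨k1.1, k2.1⟩⟩ rfl rfl
    obtain ⟨n, hn⟩ := h.gen c k
    have a1 := inv_eq_of_two k1
    have a2 := mul_self_of_two k2
    have a3 : x * c * x⁻¹ = (c : G)⁻¹ := by
      rw [eq_inv_iff_mul_eq_one, ← a2, a1]; group
    have a4 : x⁻¹ * c * c * (x⁻¹ * c)⁻¹ = (c : G)⁻¹ := by rw [← a3, a1]; simp [a1, mul_assoc]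
    exact ⟨⟨k1, by simp only [← hn, ← conj_zpow, a3, inv_zpow]⟩, k2, by simp only [← hn, ← conj_zpow, a4, inv_zpow]⟩
  have k2 : ∀ x ∈ T, ∑ c : centralizer ({y} : Set G), (if x⁻¹ * c ∈ T then 1 - L c else 0) =
      ∑ w ∈ T, (1 - L (x * w)) := fun x hx => by
    rw [← Finset.sum_filter]
    refine Finset.sum_bij (fun c _ => x⁻¹ * c) (fun c hc => (Finset.mem_filter.1 hc).2) (by simp)
      (fun w hw => ⟨⟨_, mul_inv_mem (Finset.mem_filter.1 hx).2.2 (Finset.mem_filter.1 hw).2.2⟩, by simpa using hw,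
        by simp⟩) (by simp)
  simp only [k]
  rw [Finset.sum_comm, Finset.sum_congr rfl k2, Finset.sum_congr rfl (g := fun _ => (T.card : ℂ)) fun x hx => by
    rw [Finset.sum_sub_distrib, hT x hx]; simp, show ivs y = T by simp [T], Set.ncard_coe_finset]
  simp [_root_.sq]

end DT

theorem two_dt {y y' z : G} {l : centralizer ({y} : Set G) →* ℂˣ} {l' : centralizer ({y'} : Set G) →* ℂˣ}
    (h : DT y l) (h' : DT y' l') (hz : orderOf z = 2) (h1 : ∀ u, orderOf u = 2 → IsConj z u)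
    (ho : ∀ g x : G, y ∈ zpowers g → y' ∉ zpowers (x⁻¹ * g * x)) :
    ∃ Y : ℤ, ((ivs y).ncard : ℤ) ^ 2 * Nat.card (centralizer ({y'} : Set G)) * (Y + 1) =
      (ivs y').ncard ^ 2 * Nat.card (centralizer ({y} : Set G)) * (Y - 1) := by
  obtain ⟨v, hv, hv'⟩ := isGenChar_exists_mult (th_gen l)
  obtain ⟨w, hw, hw'⟩ := isGenChar_exists_mult (th_gen l')
  have zz := mul_self_of_two hz
  obtain ⟨s, a, b, vs, ws, va, wb, hF, kF⟩ := comb (o := oneIrr G) (v := v) (w := w)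
    (by exact_mod_cast (hv _).symm.trans h.one) (by exact_mod_cast (hw _).symm.trans h'.one)
    (by exact_mod_cast (classInner_eq_sum_of_mult (isGenChar_classFun (th_gen l)) hv hv).symm.trans h.norm)
    (by exact_mod_cast (classInner_eq_sum_of_mult (isGenChar_classFun (th_gen l')) hw hw).symm.trans h'.norm)
    (by
      apply Int.cast_injective (α := ℂ)
      rw [← classInner_eq_sum_of_mult (isGenChar_classFun (th_gen l)) hv hw]
      nth_rw 1 [th]
      rw [inner_indFun_left _ _ (isGenChar_classFun (th_gen l')), classInner_def, Finset.sum_eq_zero fun c _ => ?_]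
      · simp
      by_cases k : l c = 1
      · simp [k]
      · rw [h'.zero fun x => ho c x (h.gen c k)]; simp)
  have ev : ∀ {θ : G → ℂ} {v : IrrCharacter G → ℤ}, θ = ∑ ψ : IrrCharacter G, (v ψ : ℂ) • (ψ : G → ℂ) →
      (∀ g, θ g = ∑ ψ, v ψ * ψ.1 g) ∧ classInner (pairs z z) θ = Nat.card G / Nat.card (centralizer ({z} : Set G)) ^ 2 *
        ∑ ψ, v ψ * (ψ.1 z ^ 2 / ψ.1 1) := by
    rintro _ v rfl
    refine ⟨by simp, ?_⟩
    simp only [classInner_sum_right, classInner_smul_right, inner_pairs, map_intCast, map_div₀, map_mul,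
      conj_irr_of_mul_self zz, conj_irr_one, Finset.mul_sum]
    exact Finset.sum_congr rfl fun χ _ => by ring
  have a1 := ((ev hv').1 1).symm.trans (h.zero_sq (one_mul 1))
  have a2 := ((ev hv').1 z).symm.trans (h.zero_sq zz)
  have a3 := h.pair hz h1
  have b1 := ((ev hw').1 1).symm.trans (h'.zero_sq (one_mul 1))
  have b2 := ((ev hw').1 z).symm.trans (h'.zero_sq zz)
  have b3 := h'.pair hz h1
  rw [(ev hv').2] at a3
  rw [(ev hw').2] at b3
  rw [hF] at a1 a2 a3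
  rw [kF, ws] at b1 b2 b3
  refine ⟨v s * charDegree s.1, Int.cast_injective (α := ℂ) ?_⟩
  push_cast at b1 b2 b3 ⊢
  rw [irr_degree_cast, ← a3, ← b3]
  have s0 := irr_one_ne_zero s
  have a0 := irr_one_ne_zero a
  have b0 := irr_one_ne_zero b
  simp only [show ∀ g, (oneIrr G).1 g = 1 from fun _ => rfl] at a1 a2 b1 b2 ⊢
  have sq : ∀ {n : ℤ}, n = 1 ∨ n = -1 → (n : ℂ) * n = 1 := by rintro _ (rfl | rfl) <;> simp
  have fr : ∀ {n : ℤ} {p q : ℂ}, n = 1 ∨ n = -1 → n * (p ^ 2 / q) = (n * p) ^ 2 / (n * q) := by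
    rintro _ _ _ (rfl | rfl) <;> simp [div_neg]
  rw [neg_mul, fr vs, fr va, fr wb]
  have s1 : (v s : ℂ) * s.1 1 ≠ 0 := mul_ne_zero (left_ne_zero_of_mul_eq_one (sq vs)) s0
  have s2 : (v a : ℂ) * a.1 1 ≠ 0 := mul_ne_zero (left_ne_zero_of_mul_eq_one (sq va)) a0
  have s3 : (w b : ℂ) * b.1 1 ≠ 0 := mul_ne_zero (left_ne_zero_of_mul_eq_one (sq wb)) b0
  rw [neg_mul] at b1 b2
  generalize (v s : ℂ) * s.1 1 = Y at *
  generalize (v s : ℂ) * s.1 z = B at *
  rw [eq_neg_of_add_eq_zero_right a1] at s2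
  rw [eq_neg_of_add_eq_zero_right b1] at s3
  rw [eq_neg_of_add_eq_zero_right a1, eq_neg_of_add_eq_zero_right a2, eq_neg_of_add_eq_zero_right b1,
    eq_neg_of_add_eq_zero_right b2]
  have e1 : (1 ^ 2 / 1 + B ^ 2 / Y + (-(1 + B)) ^ 2 / -(1 + Y)) * (Y + 1) = (Y - B) ^ 2 / Y := by
    rw [neg_ne_zero] at s2
    rw [div_neg]; field_simp; ring
  have e2 : (1 ^ 2 / 1 + -(B ^ 2 / Y) + (-(1 + -B)) ^ 2 / -(1 + -Y)) * (Y - 1) = (Y - B) ^ 2 / Y := by
    rw [neg_ne_zero, ← sub_eq_add_neg] at s3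
    rw [div_neg, ← sub_eq_add_neg 1 Y]; field_simp; ring
  linear_combination (Nat.card (centralizer ({y} : Set G)) * Nat.card (centralizer ({y'} : Set G)) *
    (Nat.card G / Nat.card (centralizer ({z} : Set G)) ^ 2) : ℂ) * (e1 - e2)

end Cfsg.Agent.SW
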