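import Mathlib
import Cfsg.Agent.SW.Char
import Cfsg.Agent.SW.Bar
import Cfsg.Agent.FGS.CycSyl
import Cfsg.Agent.Dih.Count
import Cfsg.Agent.Golay.Cls
import Cfsg.Agent.Gl23.Iso

/-! Groups with cyclic Sylow subgroups for odd primes: tools. -/

set_option autoImplicit false
set_option linter.unusedSectionVars false

namespace Cfsg.Agent.SW

open Subgroup Cfsg.Agent.GW Cfsg.Agent.LocalEven Cfsg.Agent.BG Cfsg.Agent.Gs Cfsg.Agent.DP Cfsg.Agent.Core
open scoped MatrixGroups _root_.Classical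

variable {G : Type*} [Group G] [Finite G] {p : ℕ} {K X Y U M A : Subgroup G}

def Zc (G : Type*) [Group G] : Prop := ∀ r, r.Prime → r ≠ 2 → Cy r G

theorem Zc.sub (h : Zc G) (K : Subgroup G) : Zc K := fun r hr h2 => (h r hr h2).sub K

theorem Zc.map (h : Zc G) {X : Type*} [Group X] (f : G →* X) (hf : Function.Surjective f) : Zc X :=
  fun r hr h2 => have := Fact.mk hr; (h r hr h2).map f hf

theorem cyconj [Fact p.Prime] (h : Cy p G) (hX : X ≤ K) (hY : Y ≤ K) (pX : IsPGroup p X) (pY : IsPGroup p Y)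
    (e : Nat.card Y = Nat.card X) : ∃ k ∈ K, cj k Y = X := by
  obtain ⟨P, hP, XP⟩ := exists_isSylowOf_ge pX hX
  obtain ⟨k, hk, k1⟩ := hP.exists_conj_le pY hY
  exact ⟨k, hk, Amb.eq_of_card_eq_of_cyclic (h P hP.isPGroup) k1 XP ((card_cj _ _).trans e)⟩

theorem Zc.cent (h : Zc G) (hU : Odd (Nat.card U)) (hM : M ≤ 𝐍(U)) (hA : A ≤ ⁅M, M⁆)
    (hc : (Nat.card A).Coprime (Nat.card U)) : A ≤ 𝐂(U) :=
  le_centralizer_of_fitOf hU ((hA.trans (Amb.der_le M)).trans hM) hc (le_centralizer_fitOf fun r hr h0 =>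
    hA.trans (Amb.der_le_cent_of_cyclic (h r hr (ne_two_of_pCoreOf hU h0) _ (isPGroup_pCoreOf _))
      (hM.trans (normalizer_le_normalizer_pCoreOf _))))

theorem npc_amb [Fact p.Prime] (h : HasNormalPComplement p K) : ∃ W ≤ K, 𝐍(K) ≤ 𝐍(W) ∧ ¬ p ∣ Nat.card W ∧
    (∀ g ∈ K, (orderOf g).Coprime p → g ∈ W) ∧ ∀ P, Core.IsSylowOf p P K → W ⊔ P = K := by
  have hm : ∀ g ∈ K, (orderOf g).Coprime p → g ∈ (pResidual p K).map K.subtype := fun g hg hc =>
    ⟨⟨g, hg⟩, Transfer.mem_pResidual_of_coprime (by rwa [orderOf_mk]), rfl⟩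
  have hd : ¬ p ∣ Nat.card ((pResidual p K).map K.subtype) := by
    rw [card_map_of_injective K.subtype_injective]; exact Transfer.hasNormalPComplement_iff_not_dvd.1 h
  refine ⟨_, map_subtype_le _, fun g hg => mem_normalizer_fintype fun x hx => hm _
    (conj_mem_of_mem_normalizer hg (map_subtype_le _ hx)) ?_, hd, hm, fun P hP => ?_⟩
  · rw [Inv.orderOf_conj]
    exact (((Fact.out : p.Prime).coprime_iff_not_dvd.2 hd).of_dvd_right (orderOf_dvd_natCard _ hx)).symm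
  · obtain ⟨j, hj⟩ := Transfer.exists_index_pResidual_eq_pow (p := p) (G := K)
    exact hP.sup_eq_of_relIndex_eq_pow (map_subtype_le _) (by
      rwa [relIndex, ← comap_subtype, comap_map_eq_self_of_injective K.subtype_injective])

theorem npc_cz [Fact p.Prime] {y : G} {P : Subgroup G} (hP : Core.IsSylowOf p P (cz y)) (hc : IsCyclic P) (hy : y ∈ P)
    (y1 : y ≠ 1) : HasNormalPComplement p (cz y) :=
  FGS.npc_of_cyclic_center hP.toSylow (isCyclic_of_surjective _ (subgroupOfEquivOfLe hP.le).symm.surjective)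
    (z := ⟨y, self_mem_cz y⟩) hy (fun e => y1 (congrArg Subtype.val e))
    (mem_center_iff.2 fun g => Subtype.ext (mem_cz.1 g.2))

theorem lift_cz {O : Subgroup G} (hO : Odd (Nat.card O)) {u h : G} {k : ℕ} (hu : u ^ 2 ^ k = 1) (uO : u ∈ 𝐍(O))
    (e : h * u * h⁻¹ * u⁻¹ ∈ O) : ∃ o ∈ O, o * h ∈ cz u := by
  have := Fact.mk Nat.prime_two
  have pu : IsPGroup 2 (zpowers u) := isPGroup_zpowers hu
  have hS : Core.IsSylowOf 2 (zpowers u) (O ⊔ zpowers u) := ⟨le_sup_right, pu, fun k => hO.not_two_dvd_nat (k.trans (by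
    have := card_sup_dvd (zpowers_le.2 uO)
    rw [← Core.card_mul_relIndex (le_sup_right (a := O)), mul_comm (Nat.card O)] at this
    exact Nat.dvd_of_mul_dvd_mul_left Nat.card_pos this))⟩
  have m : h * u * h⁻¹ ∈ O ⊔ zpowers u := by
    simpa using mul_mem (mem_sup_left e) (mem_sup_right (mem_zpowers u) : u ∈ O ⊔ _)
  obtain ⟨c, hc, k1⟩ := hS.exists_conj_le (isPGroup_zpowers (by rw [conj_pow, hu]; simp)) (zpowers_le.2 m)
  obtain ⟨w, hw, o, ho, rfl⟩ := (mem_sup_of_le_normalizer' (zpowers_le.2 uO)).1 (sup_comm O _ ▸ hc)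
  have k2 : w * o * (h * u * h⁻¹) * (w * o)⁻¹ ∈ zpowers u := k1 (conj_mem_cj (mem_zpowers _))
  refine ⟨o, ho, mem_cz_of_conj (mul_inv_eq_one.1 (mem_bot.1 ((inf_eq_bot_of_odd pu hO).le (mem_inf.2 ⟨?_, ?_⟩))))⟩
  · convert mul_mem (mul_mem (mul_mem (inv_mem hw) k2) hw) (inv_mem (mem_zpowers u)) using 1; group
  · convert mul_mem (mul_mem ho e) (conj_mem_of_mem_normalizer uO (inv_mem ho)) using 1; group

theorem exists_lin {C : Type*} [Group C] [Finite C] (W : Subgroup C) [W.Normal] [IsCyclic (C ⧸ W)] :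
    ∃ l : C →* ℂˣ, l.ker = W := by
  obtain ⟨g, hg⟩ := IsCyclic.exists_generator (α := C ⧸ W)
  have hζ := (Complex.isPrimitiveRoot_exp _ (orderOf_pos g).ne').isUnit_unit (orderOf_pos g).ne'
  have ho := hζ.eq_orderOf
  refine ⟨(monoidHomOfForallMemZpowers hg ho.symm.dvd).comp (QuotientGroup.mk' W), ?_⟩
  rw [← MonoidHom.comap_ker, (MonoidHom.ker_eq_bot_iff _).2 ((injective_iff_map_eq_one _).2 fun x hx => ?_),
    MonoidHom.comap_bot, QuotientGroup.ker_mk']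
  obtain ⟨k, rfl⟩ := hg x
  simp only [map_zpow, monoidHomOfForallMemZpowers_apply_gen, ← orderOf_dvd_iff_zpow_eq_one, ← ho] at hx ⊢
  exact hx

theorem exists_dt [Fintype G] [Fact p.Prime] {y a u : G} {j : ℕ} (hy : y ∈ zpowers a)
    (hS : Core.IsSylowOf p (zpowers a) (cz y)) (yy : y * y ≠ 1) (hj : y ^ p ^ (j + 1) = 1) (ha : (a * a) ^ p ^ j ≠ 1)
    (hu : u * y * u⁻¹ = y⁻¹) (hua : (u * a * u⁻¹ * a) ^ p ^ j = 1)
    (aut : ∀ g, g * y * g⁻¹ ∈ zpowers y → g * y * g⁻¹ = y ∨ g * y * g⁻¹ = y⁻¹) : ∃ l, DT y l := by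
  have hn := npc_cz hS inferInstance hy fun e => yy (by rw [e, one_mul])
  let a' : cz y := ⟨a, hS.le (mem_zpowers a)⟩
  have dec : ∀ c : cz y, ∃ k ∈ pResidual p (cz y), ∃ t : ℤ, k * a' ^ t = c := fun c => by
    obtain ⟨k, hk, x, ⟨t, ht⟩, e⟩ := Transfer.exists_mul_eq_of_sylow hS.toSylow c
    exact ⟨k, hk, t, e ▸ congrArg _ (Subtype.ext ht)⟩
  have : IsCyclic (cz y ⧸ pResidual p (cz y)) := ⟨⟨a', fun c => by
    obtain ⟨c, rfl⟩ := QuotientGroup.mk_surjective c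
    obtain ⟨k, hk, t, rfl⟩ := dec c
    exact ⟨t, by simp [(QuotientGroup.eq_one_iff k).2 hk]⟩⟩⟩
  obtain ⟨l, hl⟩ := exists_lin (pResidual p (cz y))
  have h1 : ∀ c, l c = 1 ↔ (orderOf c).Coprime p := fun c => by
    rw [← Transfer.mem_pResidual_iff_coprime hn, ← hl, MonoidHom.mem_ker]
  refine ⟨l ^ p ^ j, yy, fun c hc => ?_, aut, fun w hw c d e => ?_, ⟨u, hu⟩, a', fun e => ha ?_⟩
  · obtain ⟨k, hk⟩ := Transfer.exists_pow_coprime_order (p := p) (orderOf_pos c).ne'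
    set m := orderOf (c ^ p ^ k)
    have h2 : (c ^ m) ^ p ^ k = 1 := by rw [pow_right_comm, pow_orderOf_eq_one]
    have h3 : (c ^ m) ^ p ^ j ≠ 1 := fun e => hc (by
      refine (pow_eq_one_iff_of_coprime (hk.pow_right k)).1 ⟨?_, ?_⟩ <;> rw [MonoidHom.pow_apply, ← map_pow, ← map_pow]
      · rw [pow_right_comm, e, map_one]
      · rw [pow_right_comm, map_pow, (h1 _).2 hk, one_pow])
    obtain ⟨g, hg, k1⟩ := hS.exists_conj_le (isPGroup_zpowers (congrArg Subtype.val h2)) (zpowers_le.2 (c ^ m).2)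
    obtain ⟨s, -, hs⟩ := (Nat.dvd_prime_pow Fact.out).1 (orderOf_dvd_of_pow_eq_one h2)
    obtain ⟨t, ht⟩ := Max.L2.mem_zpowers_of_cyclic (k1 (conj_mem_cj (mem_zpowers _))) hy (by
      rw [Inv.orderOf_conj, orderOf_coe, hs]
      refine (orderOf_dvd_of_pow_eq_one hj).trans (pow_dvd_pow _ (by_contra fun k2 => h3 ?_))
      exact orderOf_dvd_iff_pow_eq_one.1 (hs ▸ pow_dvd_pow _ (by omega)))
    simp only [conj_zpow] at ht
    exact (congrArg (· ∈ _) (mul_left_cancel (mul_right_cancel (ht.trans (conj_eq_of_mem_cz hg).symm)))).mp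
      (zpow_mem (pow_mem (mem_zpowers _) m) t)
  · let σ : cz y →* cz y := ((MulAut.conj u).toMonoidHom.comp (cz y).subtype).codRestrict _ fun c => mem_of_inv hu c.2
    have m := mul_inv_mem hw (inv_inverts hu)
    rw [show d = ⟨_, m⟩ * σ c * ⟨_, m⟩⁻¹ from Subtype.ext (by simp [σ, ← e]; group), map_mul, map_mul, map_inv,
      mul_right_comm, mul_inv_cancel, one_mul]
    obtain ⟨k, hk, t, rfl⟩ := dec c
    have k1 : (l ^ p ^ j) (σ a') = ((l ^ p ^ j) a')⁻¹ := by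
      rw [eq_inv_iff_mul_eq_one, ← map_mul, MonoidHom.pow_apply, ← map_pow, ← map_one l]
      exact congrArg l (Subtype.ext hua)
    have k2 := (Transfer.mem_pResidual_iff_coprime hn).1 hk
    simp only [map_mul, map_zpow, k1, MonoidHom.pow_apply l _ k, MonoidHom.pow_apply l _ (σ k), (h1 k).2 k2,
      (h1 (σ k)).2 (k2.of_dvd_left (orderOf_map_dvd σ k)), one_pow, one_mul, inv_zpow]
  · rw [← map_mul, MonoidHom.pow_apply, ← map_pow, h1] at e
    obtain ⟨k, hk⟩ := isPGroup_iff_mem.1 hS.isPGroup _ (pow_mem (mul_mem (mem_zpowers a) (mem_zpowers a)) (p ^ j))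
    exact (pow_eq_one_iff_of_coprime (e.pow_right k)).1 ⟨congrArg Subtype.val (pow_orderOf_eq_one ((a' * a') ^ p ^ j)), hk⟩

theorem ncard_inv {y u : G} (hu : u * y * u⁻¹ = y⁻¹) : {w | w * y * w⁻¹ = y⁻¹}.ncard = Nat.card (cz y) := by
  rw [← Set.ncard_image_of_injective _ (mul_left_injective u), ← SetLike.coe_sort_coe, Nat.card_coe_set_eq]
  congr 1
  refine Set.ext fun c => ⟨?_, fun hc => ⟨c * u⁻¹, ?_, by simp⟩⟩
  · rintro ⟨w, hw, rfl⟩; exact mul_inv_mem hw hu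
  · calc _ = c * (u⁻¹ * y * u⁻¹⁻¹) * c⁻¹ := by group
      _ = (c * y * c⁻¹)⁻¹ := by rw [inv_inverts hu]; group
      _ = _ := by rw [conj_eq_of_mem_cz hc]

theorem not_cy_L33 : ¬ Cy 3 Gl23.L33 := fun h => by
  let x : SL(3, ZMod 3) := ⟨!![1, 1, 0; 0, 1, 0; 0, 0, 1], by rw [Matrix.det_fin_three]; decide⟩
  let y : SL(3, ZMod 3) := ⟨!![1, 0, 1; 0, 1, 0; 0, 0, 1], by rw [Matrix.det_fin_three]; decide⟩
  have x3 : x ^ 3 = 1 := by decide
  have y3 : y ^ 3 = 1 := by decide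
  have x1 : x ≠ 1 := fun e => absurd (congrArg Subtype.val e) (by decide)
  have y1 : y ≠ 1 := fun e => absurd (congrArg Subtype.val e) (by decide)
  have c : x * y = y * x := by decide
  have n : y ∉ zpowers x := by
    rw [← mem_powers_iff_mem_zpowers, mem_powers_iff_mem_range_orderOf, orderOf_eq_prime x3 x1, Finset.mem_image]
    rintro ⟨k, hk, e⟩
    exact (by decide : ∀ k ∈ Finset.range 3, x.1 ^ k ≠ y.1) k hk (by simpa using congrArg Subtype.val e)
  have := Fact.mk Nat.prime_three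
  have hc : center SL(3, ZMod 3) = ⊥ := card_eq_one.1 (by rw [Classical.SLBasic.card_center_SL]; simp)
  have hi : Function.Injective (QuotientGroup.mk' (center SL(3, ZMod 3))) :=
    (MonoidHom.ker_eq_bot_iff _).1 (by rw [QuotientGroup.ker_mk', hc])
  have h' := (h.sub _).map (MonoidHom.ofInjective hi).symm.toMonoidHom (MulEquiv.surjective _)
  refine n (Amb.eq_of_card_eq_of_cyclic (h' _ (.of_card (card_sup_pair x3 y3 c x1 n))) le_sup_left
    le_sup_right ?_ ▸ mem_zpowers y)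
  rw [Nat.card_zpowers, Nat.card_zpowers, orderOf_eq_prime x3 x1, orderOf_eq_prime y3 y1]

theorem not_cy_M11 : ¬ Cy 3 Spor.M11 := fun h => by
  have := Fact.mk Nat.prime_three
  obtain ⟨P, hP⟩ := Sylow.exists_subgroup_card_pow_prime (G := Spor.M11) 3 (n := 2) (by rw [Golay.card_M11]; norm_num)
  obtain ⟨g, hg⟩ := (h P (.of_card hP)).exists_ofOrder_eq_natCard
  obtain ⟨r, hr, k, -⟩ := Golay.card_cent_M11 g
  rw [orderOf_coe, hg, hP] at k
  exact (by decide +kernel : ∀ r ∈ Golay.cls11, 3 ^ 2 ≠ r.2.1) r hr k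

end Cfsg.Agent.SW
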