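import Mathlib
import Cfsg.Agent.SW.Tool
import Cfsg.Agent.GsC.Eight
import Cfsg.Agent.GsC.Known
import Cfsg.Agent.S0803
import Cfsg.Agent.S0804
import Cfsg.Agent.S0799
import Cfsg.Agent.Classical.P1Ident

/-! Hall numbers. -/

set_option autoImplicit false
set_option linter.unusedSectionVars false

namespace Cfsg.Agent.SW

open Subgroup Cfsg.Agent.GW Cfsg.Agent.LocalEven Cfsg.Agent.BG Cfsg.Agent.Gs Cfsg.Agent.DP
open scoped MatrixGroups

variable {G : Type*} [Group G] [Finite G] {T N K : Subgroup G} {m : ℕ}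

theorem four_three (hT : Core.IsSylowOf 2 T N) (hn : ¬ Group.IsSolvable N) (h8 : ¬ 8 ∣ Nat.card N) :
    Nat.card T = 4 ∧ 3 ∣ Nat.card (N ⊓ 𝐍(T) : Subgroup G) := by
  have := Fact.mk Nat.prime_two
  have sT := Core.solvable_of_isPGroup hT.isPGroup
  have c : ¬ IsCyclic T := fun c => by
    obtain ⟨W, -, nW, oW, -, e⟩ := npc_amb (Block.hasNormalPComplement_two_of_isCyclic hT.toSylow
      (isCyclic_of_surjective _ (subgroupOfEquivOfLe hT.le).symm.surjective))
    exact hn (e T hT ▸ Amb.solvable_sup (solv_of_odd (Nat.odd_iff.2 (by omega))) sT (hT.le.trans (le_normalizer.trans nW)))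
  obtain ⟨j, hj⟩ := hT.isPGroup.exists_card_eq
  have h4 : Nat.card T = 2 ^ 2 := by
    have : ¬ 3 ≤ j := fun k => h8 ((pow_dvd_pow 2 k).trans (hj ▸ card_dvd_of_le hT.le))
    have : ¬ j ≤ 1 := fun k => c (isCyclic_of_card_dvd_prime (p := 2) (hj ▸ (pow_dvd_pow 2 k).trans (pow_one 2).dvd))
    rw [hj, show j = 2 by omega]
  have kl : IsKleinFour T := ⟨h4, (not_isCyclic_iff_exponent_eq_prime Nat.prime_two h4).1 c⟩
  refine ⟨h4, .trans ?_ (Core.relIndex_dvd_card' 𝐂(T) _)⟩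
  have d := Inv.four_relIndex_dvd kl (inf_le_right : N ⊓ 𝐍(T) ≤ _)
  have d2 : ¬ 2 ∣ 𝐂(T).relIndex (N ⊓ 𝐍(T)) := fun k => (hT.of_le (le_inf hT.le le_normalizer) inf_le_left).not_dvd
    (k.trans (relIndex_dvd_of_le_left _ (le_centralizer_iff_isMulCommutative.2 kl.isMulCommutative)))
  have d3 : 𝐂(T).relIndex (N ⊓ 𝐍(T)) ≠ 1 := fun k => hn (Core.solvable_of_le
    (JT.le_oOf_sup hT fun g g1 g2 => relIndex_eq_one.1 k (mem_inf.2 ⟨g1, g2⟩))
    (Amb.solvable_sup (solv_of_odd (odd_oOf _)) sT (hT.le.trans (le_normalizer_oOf _))))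
  have := Nat.le_of_dvd (by norm_num) d
  generalize 𝐂(T).relIndex _ = n at *
  interval_cases n <;> omega

theorem twelve (hn : ¬ Group.IsSolvable G) (h8 : ¬ 8 ∣ Nat.card G) : 12 ∣ Nat.card G := by
  have := Fact.mk Nat.prime_two
  obtain ⟨S⟩ : Nonempty (Sylow 2 G) := inferInstance
  obtain ⟨h4, h3⟩ := four_three (Core.isSylowOf_top S) (fun _ => hn (solvable_of_surjective (f := (⊤ : Subgroup G).subtype) fun g => ⟨⟨g, trivial⟩, rfl⟩))
    (card_top (G := G) ▸ h8)
  exact (by norm_num : Nat.Coprime 4 3).mul_dvd_of_dvd_of_dvd (h4 ▸ card_subgroup_dvd_card _)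
    (h3.trans (card_subgroup_dvd_card _))

theorem four_dvd (hn : ¬ Group.IsSolvable G) : 4 ∣ Nat.card G := by
  by_cases h : 8 ∣ Nat.card G
  · omega
  · have := twelve hn h
    omega

theorem solv_quot (N : Subgroup G) [N.Normal] (h1 : Group.IsSolvable N) (h2 : Group.IsSolvable (G ⧸ N)) :
    Group.IsSolvable G :=
  solvable_of_ker_le_range N.subtype (QuotientGroup.mk' N) (by rw [QuotientGroup.ker_mk', range_subtype])

theorem solv_comap [N.Normal] (h1 : Group.IsSolvable N) {K : Subgroup (G ⧸ N)} (h2 : Group.IsSolvable K) :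
    Group.IsSolvable (K.comap (QuotientGroup.mk' N)) :=
  have := Core.solvable_subgroupOf (K := K.comap (QuotientGroup.mk' N)) h1
  solvable_of_ker_le_range (N.subgroupOf _).subtype ((QuotientGroup.mk' N).subgroupComap K) fun g hg =>
    ⟨⟨g, (QuotientGroup.eq_one_iff (g : G)).1 (congrArg Subtype.val hg)⟩, rfl⟩

/-- The normalizer of a Sylow `2`-subgroup of a non-solvable normal subgroup. -/
theorem norm_syl [N.Normal] (hT : Core.IsSylowOf 2 T N) (hn : ¬ Group.IsSolvable N) (h : ¬ 16 ∣ Nat.card G) :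
    Group.IsSolvable 𝐍(T) ∧ ¬ 2 ∣ 𝐍(T).index ∧ Nat.card G ∣ Nat.card N * Nat.card 𝐍(T) := by
  have := Fact.mk Nat.prime_two
  have f := hT.frattini_top
  refine ⟨solv_quot (T.subgroupOf _) (Core.solvable_subgroupOf (Core.solvable_of_isPGroup hT.isPGroup))
    (by_contra fun k => h ?_), fun k => ?_, card_top (G := G) ▸ f ▸ card_sup_dvd le_normalizer_of_normal⟩
  · refine .trans ?_ (card_subgroup_dvd_card 𝐍(T))
    rw [card_eq_card_quotient_mul_card_subgroup (T.subgroupOf _), Core.card_subgroupOf_of_le le_normalizer]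
    refine mul_dvd_mul (four_dvd k) ((Nat.Coprime.pow_left 2 (Nat.prime_two.coprime_iff_not_dvd.2
      hT.not_dvd)).dvd_of_dvd_mul_right ?_)
    rw [Core.card_mul_relIndex hT.le]
    exact four_dvd hn
  · obtain ⟨S, hS, l⟩ := Core.exists_isSylowOf_ge hT.isPGroup le_top
    refine hS.not_dvd (relIndex_top_right S ▸ k.trans (index_dvd_of_le ?_))
    rw [hT.eq_of_le hS.isPGroup.to_inf_left inf_le_right (le_inf l hT.le)]
    exact Amb.le_norm_inf le_normalizer le_normalizer_of_normal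

theorem cop6 (h16 : ¬ 16 ∣ Nat.card G) (h9 : ¬ 9 ∣ Nat.card G) (h : 24 ∣ Nat.card K) : K.index.Coprime 6 := by
  obtain ⟨c, hc⟩ := h
  rw [← K.card_mul_index, hc] at h16 h9
  refine Nat.Coprime.mul_right (k := K.index) (m := 2) (n := 3) (Nat.prime_two.coprime_iff_not_dvd.2 ?_).symm
    (Nat.prime_three.coprime_iff_not_dvd.2 ?_).symm <;> rintro ⟨d, hd⟩
  · exact h16 ⟨3 * c * d, by rw [hd]; ring⟩
  · exact h9 ⟨8 * c * d, by rw [hd]; ring⟩

theorem exists_six.{u} (G : Type u) [Group G] [Finite G] : ¬ 16 ∣ Nat.card G → ¬ 9 ∣ Nat.card G →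
    ∃ K : Subgroup G, Group.IsSolvable K ∧ K.index.Coprime 6 := by
  have := Fact.mk Nat.prime_two
  refine Core.induction_on_card (P := fun G _ _ => ¬ 16 ∣ Nat.card G → ¬ 9 ∣ Nat.card G →
    ∃ K : Subgroup G, Group.IsSolvable K ∧ K.index.Coprime 6) (fun G _ _ ih h16 h9 => ?_) G
  have sub : ∀ M : Subgroup G, M ≠ ⊤ → M.index.Coprime 6 → ∃ K : Subgroup G, Group.IsSolvable K ∧ K.index.Coprime 6 :=
    fun M hM c => by
    obtain ⟨K, h1, h2⟩ := ih M (Core.card_lt_of_ne_top M hM) (fun k => h16 (k.trans (card_subgroup_dvd_card M)))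
      fun k => h9 (k.trans (card_subgroup_dvd_card M))
    exact ⟨K.map M.subtype, solvable_of_surjective (M.subtype.subgroupMap_surjective K),
      index_map_subtype K ▸ h2.mul_left c⟩
  by_cases hG : Group.IsSolvable G
  · exact ⟨⊤, inferInstance, by simp⟩
  have : Nontrivial G := not_subsingleton_iff_nontrivial.1 fun _ => hG inferInstance
  obtain ⟨N, _, N0, -, hm⟩ := Core.exists_minimal_normal_le (⊤ : Subgroup G) top_ne_bot
  by_cases hN : Group.IsSolvable N
  · have d := card_quotient_dvd_card N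
    obtain ⟨K, h1, h2⟩ := ih (G ⧸ N) (Core.card_quotient_lt N N0) (fun k => h16 (k.trans d)) fun k => h9 (k.trans d)
    exact ⟨_, solv_comap hN h1, (index_comap_of_surjective K (QuotientGroup.mk'_surjective N)).symm ▸ h2⟩
  obtain ⟨T, hT, -⟩ := Core.exists_isSylowOf_ge (IsPGroup.of_bot (p := 2)) (bot_le (a := N))
  obtain ⟨s, o, f⟩ := norm_syl hT hN h16
  by_cases h3 : 3 ∣ 𝐍(T).index
  swap
  · exact ⟨_, s, Nat.Coprime.mul_right (m := 2) (n := 3) (Nat.prime_two.coprime_iff_not_dvd.2 o).symm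
      (Nat.prime_three.coprime_iff_not_dvd.2 h3).symm⟩
  have n3 : ¬ 3 ∣ Nat.card 𝐍(T) := fun k => h9 (𝐍(T).card_mul_index ▸ mul_dvd_mul k h3)
  have h24 : 24 ∣ Nat.card N := (by norm_num : Nat.Coprime 8 3).mul_dvd_of_dvd_of_dvd
    (by_contra fun k => n3 ((four_three hT hN k).2.trans (card_dvd_of_le inf_le_right)))
    ((Nat.prime_three.dvd_mul.1 ((h3.trans (index_dvd_card _)).trans f)).resolve_right n3)
  rcases eq_or_ne N ⊤ with rfl | hn
  swap
  · exact sub N hn (cop6 h16 h9 h24)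
  have : IsSimpleGroup G := ⟨fun M hM => hm M hM le_top⟩
  obtain ⟨S⟩ : Nonempty (Sylow 2 G) := inferInstance
  have h8 : Nat.card S = 8 := by
    obtain ⟨j, hj⟩ := S.isPGroup'.exists_card_eq
    have : ¬ 4 ≤ j := fun k => h16 ((pow_dvd_pow 2 k).trans (hj ▸ card_subgroup_dvd_card _))
    have := S.pow_dvd_card_of_pow_dvd_card (n := 3) (.trans (by norm_num) (h24.trans (card_subgroup_dvd_card _)))
    rw [hj, Nat.pow_dvd_pow_iff_le_right one_lt_two] at this
    rw [hj, show j = 3 by omega]; rfl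
  rcases GsC.eight_cases (fun k => hG (isSolvable_of_comm k.is_comm.comm)) S h8 with
    ⟨F, _, _, hF, ⟨e⟩⟩ | ⟨F, _, _, hF, ⟨e⟩⟩ | ⟨⟨e⟩⟩ | h
  · exact absurd (by rw [Nat.card_congr e.toEquiv, CIT.F.card_psl2_even (n := 3) (by norm_num) hF]; norm_num) h9
  · obtain ⟨H, ⟨f⟩⟩ := (S0803.result (F := F) rfl).2 (by rcases hF with h | h <;> rw [Nat.pow_mod, h])
    have c : Nat.card (H.comap e.toMonoidHom) = 24 := by
      rw [comap_equiv_eq_map_symm', card_map_of_injective e.symm.injective, Nat.card_congr f.toEquiv]; simp; rfl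
    refine sub _ (fun k => ?_) (cop6 h16 h9 c.symm.dvd)
    have h7 : 7 ≤ Fintype.card F := by omega
    have := Nat.mul_le_mul h7 (show 48 ≤ Fintype.card F ^ 2 - 1 by have := Nat.pow_le_pow_left h7 2; omega)
    rw [← Inv.card_psl2_odd (by omega), ← Nat.card_congr e.toEquiv, ← card_top, ← k, c] at this
    omega
  · exact absurd (by rw [Nat.card_congr e.toEquiv, nat_card_alternatingGroup]; simp; decide) h9
  · obtain ⟨t, tS, ht⟩ := exists_mem_orderOf_eq (H := (S : Subgroup G)) (p := 2) (by rw [h8]; norm_num)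
    obtain ⟨E, E₀, k⟩ := h.shape t ht
    obtain ⟨R, hR⟩ := k.four
    have := k.simple
    refine sub _ (h.max t ht).1 (cop6 h16 h9 ((by norm_num : Nat.Coprime 8 3).mul_dvd_of_dvd_of_dvd
      (h8 ▸ card_dvd_of_le fun s hs => mem_cz.2 (GW.comm_of_sq (h.elem S) hs tS))
      (.trans (by norm_num) ((twelve (fun _ => k.nab ⟨⟨IsSimpleGroup.comm_iff_isSolvable.2 ‹_›⟩⟩) fun d => ?_).trans
        (card_dvd_of_le (k.le.trans k.prod.2.1))))))
    exact absurd (hR ▸ R.pow_dvd_card_of_pow_dvd_card (n := 3) d) (by norm_num)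

/-- `m` exactly divides the order. -/
def Ex (m : ℕ) (G : Type*) [Group G] : Prop := m ∣ Nat.card G ∧ m.Coprime (Nat.card G / m)

theorem Ex.of_dvd (h : Ex m G) {X : Type*} [Group X] (d : Nat.card X ∣ Nat.card G) (hm : m ∣ Nat.card X) : Ex m X :=
  ⟨hm, h.2.coprime_dvd_right (by
    obtain ⟨a, ha⟩ := hm
    obtain ⟨b, hb⟩ := d
    have := Nat.pos_of_dvd_of_pos h.1 Nat.card_pos
    rw [hb, ha, mul_assoc, Nat.mul_div_cancel_left _ this, Nat.mul_div_cancel_left _ this]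
    exact Dvd.intro _ rfl)⟩

theorem Ex.solv (h : Ex m G) (hK : Group.IsSolvable K) (hm : m ∣ Nat.card K) : ∃ H : Subgroup G, Nat.card H = m := by
  obtain ⟨H, hH⟩ := Core.exists_subgroup_card_of_coprime (G := K) m _ (Nat.mul_div_cancel' hm).symm
    (h.of_dvd (card_subgroup_dvd_card K) hm).2
  exact ⟨_, (card_map_of_injective K.subtype_injective).trans hH⟩

theorem Ex.solv' (h : Ex m G) (hG : Group.IsSolvable G) : ∃ H : Subgroup G, Nat.card H = m :=
  h.solv (K := ⊤) inferInstance (card_top (G := G) ▸ h.1)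

theorem Ex.nd (h : Ex m G) {p a k : ℕ} (hp : p.Prime) (hm : m = a * k) (hd : p ∣ a) (hk : ¬ p ∣ k)
    (ha : (p * a).Coprime k) : ¬ p * a ∣ Nat.card G := fun d => by
  have := ha.mul_dvd_of_dvd_of_dvd d ((Dvd.intro_left _ hm.symm).trans h.1)
  rw [mul_assoc, ← hm, ← Nat.mul_div_cancel' h.1, mul_comm p] at this
  exact hp.one_lt.ne' (Nat.eq_one_of_dvd_coprimes h.2 (hm ▸ hd.mul_right k)
    (Nat.dvd_of_mul_dvd_mul_left (Nat.pos_of_dvd_of_pos h.1 Nat.card_pos) this))

theorem Ex.six (h : Ex m G) (h16 : ¬ 16 ∣ Nat.card G) (h9 : ¬ 9 ∣ Nat.card G) (hm : m ∣ 6 ^ 3) :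
    ∃ H : Subgroup G, Nat.card H = m := by
  obtain ⟨K, h1, h2⟩ := exists_six G h16 h9
  exact h.solv h1 (((h2.pow_right 3).coprime_dvd_right hm).symm.dvd_of_dvd_mul_right (K.card_mul_index ▸ h.1))

theorem sixty.{u} (G : Type u) [Group G] [Finite G] : Ex 60 G → ∃ H : Subgroup G, Nat.card H = 60 := by
  have := Fact.mk Nat.prime_two
  refine Core.induction_on_card (P := fun G _ _ => Ex 60 G → ∃ H : Subgroup G, Nat.card H = 60) (fun G _ _ ih h => ?_) G
  have h8 : ¬ 8 ∣ Nat.card G := h.nd (a := 4) (k := 15) Nat.prime_two rfl (by norm_num) (by norm_num) (by norm_num)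
  have h9 : ¬ 9 ∣ Nat.card G := h.nd (a := 3) (k := 20) Nat.prime_three rfl (by norm_num) (by norm_num) (by norm_num)
  have h16 : ¬ 16 ∣ Nat.card G := by omega
  by_cases hG : Group.IsSolvable G
  · exact h.solv' hG
  have : Nontrivial G := not_subsingleton_iff_nontrivial.1 fun _ => hG inferInstance
  obtain ⟨N, _, N0, -, hm⟩ := Core.exists_minimal_normal_le (⊤ : Subgroup G) top_ne_bot
  by_cases hN : Group.IsSolvable N
  · have c := card_eq_card_quotient_mul_card_subgroup N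
    have d := twelve (fun k => hG (solv_quot N hN k)) fun k => h8 (k.trans (card_quotient_dvd_card N))
    by_cases h5 : 5 ∣ Nat.card N
    · obtain ⟨K, h1, h2⟩ := exists_six G h16 h9
      exact h.solv (Amb.solvable_sup hN h1 le_normalizer_of_normal) ((by norm_num : Nat.Coprime 5 12).mul_dvd_of_dvd_of_dvd
        (h5.trans (card_dvd_of_le le_sup_left)) ((((h2.pow_right 2).coprime_dvd_right (by norm_num)).symm.dvd_of_dvd_mul_right
          (K.card_mul_index ▸ (Dvd.intro 5 rfl).trans h.1)).trans (card_dvd_of_le le_sup_right)))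
    have cp : (Nat.card N).Coprime 60 := by
      refine Nat.Coprime.coprime_dvd_right (show 60 ∣ 2 * 2 * 3 * 5 by norm_num) ?_
      simp only [Nat.coprime_mul_iff_right]
      refine ⟨⟨⟨?_, ?_⟩, ?_⟩, (Nat.prime_five.coprime_iff_not_dvd.2 h5).symm⟩
      iterate 2 exact (Nat.prime_two.coprime_iff_not_dvd.2 fun k => h8 ((show 8 ∣ 12 * 2 by norm_num).trans (c ▸ mul_dvd_mul d k))).symm
      exact (Nat.prime_three.coprime_iff_not_dvd.2 fun k => h9 ((show 9 ∣ 12 * 3 by norm_num).trans (c ▸ mul_dvd_mul d k))).symm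
    obtain ⟨H, hH⟩ := ih (G ⧸ N) (Core.card_quotient_lt N N0) (h.of_dvd (card_quotient_dvd_card N)
      (cp.symm.dvd_of_dvd_mul_right (c ▸ h.1)))
    have l : N ≤ H.comap (QuotientGroup.mk' N) := fun g hg => by
      rw [mem_comap, QuotientGroup.mk'_apply, (QuotientGroup.eq_one_iff g).2 hg]; exact one_mem _
    have i : (N.subgroupOf (H.comap (QuotientGroup.mk' N))).index = 60 := by
      have := Core.card_mul_relIndex l
      rw [card_comap' (QuotientGroup.mk'_surjective N), QuotientGroup.ker_mk', hH] at this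
      exact Nat.eq_of_mul_eq_mul_left Nat.card_pos this
    obtain ⟨X, hX⟩ := exists_right_complement'_of_coprime (N := N.subgroupOf (H.comap (QuotientGroup.mk' N)))
      (by rwa [i, Core.card_subgroupOf_of_le l])
    exact ⟨_, (card_map_of_injective (subtype_injective _)).trans (hX.symm.index_eq_card.symm.trans i)⟩
  obtain ⟨T, hT, -⟩ := Core.exists_isSylowOf_ge (IsPGroup.of_bot (p := 2)) (bot_le (a := N))
  obtain ⟨s, -, f⟩ := norm_syl hT hN h16
  have n8 : ¬ 8 ∣ Nat.card N := fun k => h8 (k.trans (card_subgroup_dvd_card N))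
  obtain ⟨h4, h3⟩ := four_three hT hN n8
  rcases Nat.prime_five.dvd_mul.1 (((Dvd.intro 12 rfl).trans h.1).trans f) with h5 | h5
  swap
  · exact h.solv s ((by norm_num : Nat.Coprime 5 12).mul_dvd_of_dvd_of_dvd h5 ((by norm_num : Nat.Coprime 4 3).mul_dvd_of_dvd_of_dvd
      (h4 ▸ card_dvd_of_le le_normalizer) (h3.trans (card_dvd_of_le inf_le_right))))
  rcases eq_or_ne N ⊤ with rfl | hn
  swap
  · obtain ⟨H, hH⟩ := ih N (Core.card_lt_of_ne_top N hn) (h.of_dvd (card_subgroup_dvd_card N)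
      ((by norm_num : Nat.Coprime 5 12).mul_dvd_of_dvd_of_dvd h5 (twelve hN n8)))
    exact ⟨_, (card_map_of_injective N.subtype_injective).trans hH⟩
  have : IsSimpleGroup G := ⟨fun M hM => hm M hM le_top⟩
  obtain ⟨S, rfl⟩ := hT.exists_sylow_top
  obtain ⟨F, _, _, h1, -, ⟨e⟩⟩ := GsC.four_known (fun k => hG (isSolvable_of_comm k.is_comm.comm)) ⟨S, h4⟩
  obtain ⟨H, ⟨f⟩⟩ := (S0804.result (F := F) rfl).2 (by
    rw [← Inv.card_psl2_odd (by omega), ← Nat.card_congr e.toEquiv, ← card_top]; exact h5.mul_left 2)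
  exact ⟨H.map e.symm.toMonoidHom, by
    rw [card_map_of_injective e.symm.injective, Nat.card_congr f.toEquiv, nat_card_alternatingGroup]; simp; rfl⟩

theorem exists_q {a b : ℕ} (c : a.Coprime b) (ha : 1 < a) (hb : 1 < b) :
    ∃ q u w, q.Prime ∧ a * b < q ∧ q = a * u + 1 ∧ q + 1 = b * w ∧ a.Coprime u ∧ b.Coprime w := by
  obtain ⟨r, h1, h2⟩ := Nat.chineseRemainder (c.pow 2 2) (a + 1) (b - 1)
  have k1 : r ≡ 1 [MOD a] := (h1.of_dvd (dvd_pow_self a two_ne_zero)).trans (by simp [Nat.ModEq])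
  have k2 : b ∣ r + 1 := (Nat.modEq_zero_iff_dvd.1 (((h2.of_dvd (dvd_pow_self b two_ne_zero)).add_right 1).trans
    (by rw [Nat.sub_add_cancel hb.le]; simp [Nat.ModEq])))
  obtain ⟨q, hq, pq, e⟩ := Nat.forall_exists_prime_gt_and_modEq (a * b) (q := a ^ 2 * b ^ 2) (a := r) (by positivity)
    (Nat.Coprime.mul_right (Nat.Coprime.pow_right 2 (Nat.coprime_of_mul_modEq_one 1 (by simpa using k1)))
      (Nat.Coprime.pow_right 2 ((Nat.coprime_self_add_right.2 (Nat.coprime_one_right r)).coprime_dvd_right k2)))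
  have l1 : a + 1 ≤ q := by nlinarith
  have l2 : b ≤ q + 1 := by nlinarith
  obtain ⟨u, hu⟩ := (Nat.modEq_iff_dvd' l1).1 ((e.of_mul_right _).trans h1).symm
  obtain ⟨w, hw⟩ := (Nat.modEq_iff_dvd' l2).1 (Nat.sub_add_cancel hb.le ▸ ((e.of_mul_left _).trans h2).add_right 1).symm
  refine ⟨q, 1 + a * u, 1 + b * w, pq, hq, ?_, ?_, by simp, by simp⟩
  · rw [← Nat.sub_add_cancel l1, hu]; ring
  · rw [← Nat.sub_add_cancel l2, hw]; ring

theorem counter {a b : ℕ} (c : a.Coprime b) (ha : 1 < a) (hb : 1 < b) (ob : Odd b) (oa : Odd a ∨ 4 ∣ a)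
    (h : ∀ (G : Type) [Group G] [Finite G], Ex (a * b) G → ∃ H : Subgroup G, Nat.card H = a * b) :
    a * b = 12 ∨ a * b = 24 ∨ a * b = 60 := by
  obtain ⟨q, u, w, pq, hq, e1, e2, c1, c2⟩ := exists_q c ha hb
  have := Fact.mk pq
  have oq : q % 2 = 1 := Nat.odd_iff.1 (pq.odd_of_ne_two (by nlinarith))
  obtain ⟨w, rfl⟩ : 2 ∣ w := (Nat.coprime_two_left.2 ob).dvd_of_dvd_mul_left (e2 ▸ by omega)
  have two : ∀ {l}, l ∣ a * u → l ∣ b * (2 * w) → l ∣ 2 := fun h1 h2 =>
    (Nat.dvd_add_right h1).1 (by rwa [← e2, e1] at h2)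
  have cq : (a * b).Coprime q := (pq.coprime_iff_not_dvd.2 (Nat.not_dvd_of_pos_of_lt (by positivity) hq)).symm
  have e3 : q ^ 2 - 1 = a * u * (b * (2 * w)) := by rw [← e2, e1]; exact Nat.sub_eq_of_eq_add (by ring)
  have cG : Nat.card PSL(2, ZMod q) = a * b * (q * u * w) := by
    have := Inv.card_psl2_odd (F := ZMod q) (by rw [ZMod.card]; exact oq)
    rw [ZMod.card, e3] at this
    exact Nat.eq_of_mul_eq_mul_left two_pos (this.trans (by ring))
  have na : ¬ a ∣ 2 := fun k => by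
    have := Nat.le_of_dvd two_pos k
    obtain rfl : a = 2 := by omega
    exact oa.elim (by decide) (by decide)
  have nb : ¬ b ∣ 2 := fun k => by
    have := Nat.le_of_dvd two_pos k
    obtain rfl : b = 2 := by omega
    exact absurd ob (by decide)
  have n1 : ¬ a * b ∣ q + 1 := fun k => na (two (Dvd.intro _ rfl) (e2 ▸ (Dvd.intro _ rfl).trans k))
  have n2 : ¬ a * b ∣ q - 1 := fun k => nb (two (by rw [e1] at k; exact (Dvd.intro_left _ rfl).trans k) (Dvd.intro _ rfl))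
  obtain ⟨H, hH⟩ := h PSL(2, ZMod q) ⟨⟨_, cG⟩, by
    rw [cG, Nat.mul_div_cancel_left _ (by positivity)]
    refine (cq.mul_right (c1.mul_left (Nat.coprime_of_dvd fun l hl d1 d2 => ?_))).mul_right
      ((Nat.coprime_of_dvd fun l hl d1 d2 => ?_).mul_left (c2.coprime_dvd_right (Dvd.intro_left 2 rfl)))
    · obtain rfl := (Nat.prime_dvd_prime_iff_eq hl Nat.prime_two).1 (two (d2.mul_left a) (d1.mul_right _))
      exact ob.not_two_dvd_nat d1
    · obtain rfl := (Nat.prime_dvd_prime_iff_eq hl Nat.prime_two).1 (two (d1.mul_right _) ((d2.mul_left 2).mul_left b))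
      exact absurd (two (((oa.resolve_left fun k => k.not_two_dvd_nat d1)).mul_right u)
        ((Nat.mul_dvd_mul_left 2 d2).mul_left b)) (by norm_num)⟩
  have g : Nat.gcd 2 (q - 1) = 2 := Nat.gcd_eq_left (by omega)
  have nq : ¬ q ∣ Nat.card H := hH ▸ Nat.not_dvd_of_pos_of_lt (by positivity) hq
  rcases S0799.result (ZMod.card q) q H with ⟨k, hk, f⟩ | ⟨P, K, hK, ⟨f⟩⟩ | ⟨⟨f⟩⟩ | ⟨⟨f⟩⟩ | ⟨⟨f⟩⟩ | ⟨K, _, _, n, hn, f⟩
  · rw [g] at hk
    have : a * b ∣ k * 2 := by
      rcases f with ⟨-, f⟩ | ⟨⟨f⟩⟩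
      · exact (hH.symm.trans f).dvd.mul_right 2
      · rw [← hH, Nat.card_congr f.toEquiv, DihedralGroup.nat_card, mul_comm]
    rcases hk with hk | hk
    · exact absurd (this.trans ((Nat.dvd_div_iff_mul_dvd (by omega)).1 hk |> (mul_comm k 2 ▸ ·))) n1
    · exact absurd (this.trans ((Nat.dvd_div_iff_mul_dvd (by omega)).1 hk |> (mul_comm k 2 ▸ ·))) n2
  · have i := (index_norm_psl (MulEquiv.refl _) P).1
    have k := Nat.mul_dvd_mul_right ((hH ▸ Nat.card_congr f.toEquiv).dvd.trans (card_dvd_of_le hK)) (q + 1)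
    rw [Nat.card_zmod] at i
    nth_rw 2 [← i] at k
    rw [card_mul_index] at k
    replace k := k.mul_left 2
    rw [Inv.card_psl2_odd (by rw [ZMod.card]; exact oq), ZMod.card, e3, ← e2, ← mul_assoc] at k
    refine absurd (cq.dvd_of_dvd_mul_left ?_) n2
    rw [show q - 1 = a * u by omega]
    exact Nat.dvd_of_mul_dvd_mul_right (Nat.succ_pos q) k
  · left; rw [← hH, Nat.card_congr f.toEquiv, nat_card_alternatingGroup]; simp; rfl
  · right; left; rw [← hH, Nat.card_congr f.toEquiv]; simp; rfl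
  · right; right; rw [← hH, Nat.card_congr f.toEquiv, nat_card_alternatingGroup]; simp; rfl
  · have e := (pq.pow_eq_iff.1 hn).1
    refine (nq ?_).elim
    rcases f with ⟨⟨f⟩⟩ | ⟨⟨f⟩⟩ <;> rw [Nat.card_congr f.toEquiv]
    · exact (Nat.coprime_two_right.2 (Nat.odd_iff.2 oq)).dvd_of_dvd_mul_left
        (by rw [Inv.card_psl2_odd (e ▸ oq), e]; exact Dvd.intro _ rfl)
    · rw [Classical.P1Ident.card_PGL_two, Nat.card_eq_fintype_card, e]; exact Dvd.intro _ rfl

end Cfsg.Agent.SW
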