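import Mathlib
import Cfsg.Agent.FGS.Homog2
import Cfsg.Agent.FGS.PSL2Real
import Cfsg.Agent.FGS.Walter
import Cfsg.Agent.Perm.Small
import Cfsg.Agent.JRE.Known
import Cfsg.Agent.JRE.Ree
import Cfsg.Agent.JRE.Cnt
import Cfsg.Agent.GW.Cor2
import Cfsg.Agent.GW.Main
import Cfsg.Agent.Comp.J1.Iso
import Cfsg.Agent.Classical.DihRecog

/-! Homogeneity for a set of odd primes in the simple groups with dihedral or abelian Sylow
2-subgroups. -/

set_option autoImplicit false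

namespace Cfsg.Agent.SW

open Subgroup Cfsg.Agent.FGS Cfsg.Agent.GW Cfsg.Agent.LocalEven Cfsg.Agent.PLocal
open scoped MatrixGroups

variable {G : Type*} [Group G] [Finite G] {π : Set ℕ} (hodd : ∀ p ∈ π, p.Prime ∧ p ≠ 2) (hh : Homog π G)
include hodd hh

theorem ph_two {p : ℕ} (hπ : p ∈ π) {x t : G} (hx : orderOf x = p) (ht : t * t = 1)
    (hN : t ∈ normalizer (zpowers x : Set G)) : t ∈ cz x := by
  have := Fact.mk (hodd p hπ).1
  have h := hh (zpowers x) (IsPi.of_pgroup (hodd p hπ).1 hπ (isPGroup_zpowers (k := 1)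
    (by rw [pow_one, ← hx, pow_orderOf_eq_one]))) 2 Nat.prime_two (fun k => (hodd 2 k).2 rfl) (zpowers t)
    (isPGroup_zpowers (k := 1) (by rw [pow_one, sq, ht])) (zpowers_le.2 hN) (mem_zpowers t)
  exact centralizer_le (by simp) h

theorem ph_inv {p : ℕ} (hπ : p ∈ π) {x t : G} (hx : orderOf x = p) (ht : t * t = 1)
    (h : t * x * t⁻¹ = x⁻¹) : False := by
  have k := ph_two hodd hh hπ hx ht (mem_normalizer_of_cj_le (by
    rw [cj_zpowers, h]; exact zpowers_le.2 (inv_mem (mem_zpowers x))))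
  rw [mem_centralizer_singleton_iff.1 k, mul_inv_cancel_right] at h
  have : p ∣ 2 := hx ▸ orderOf_dvd_of_pow_eq_one (by rw [sq]; exact mul_eq_one_iff_eq_inv.2 h)
  exact (hodd p hπ).2 ((Nat.prime_dvd_prime_iff_eq (hodd p hπ).1 Nat.prime_two).1 this)

variable [IsSimpleGroup G] (hn : ¬ IsMulCommutative G)
include hn

theorem ph_step {p : ℕ} [Fact p.Prime] (hπ : p ∈ π) (hd : p ∣ Nat.card G) (P : Sylow p G)
    [IsMulCommutative (P : Subgroup G)] : ∃ r ∈ π, r ≠ p ∧ r ∣ Nat.card G ∧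
      r ∣ (centralizer ((P : Subgroup G) : Set G)).relIndex (normalizer ((P : Subgroup G) : Set G)) := by
  obtain ⟨r, hr, hrd⟩ := Nat.exists_prime_and_dvd (Perm.relIndex_centralizer_ne_one hn P hd)
  refine ⟨r, by_contra fun k => ?_, ?_, (hrd.trans (relIndex_dvd_card ..)).trans (card_subgroup_dvd_card _), hrd⟩
  · exact Core.not_dvd_relIndex_of_forall_isPGroup_le hr (fun R hR hR' =>
      hh P (IsPi.of_pgroup Fact.out hπ P.isPGroup') r hr k R hR' hR) hrd
  · rintro rfl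
    exact P.not_dvd_index ((hrd.trans (relIndex_dvd_of_le_left _ P.le_centralizer)).trans
      (relIndex_dvd_index_of_le P.le_normalizer))

theorem ph_sq {p : ℕ} (hπ : p ∈ π) (hd : p ∣ Nat.card G) (h2 : ¬ p ^ 2 ∣ Nat.card G) :
    ∃ r ∈ π, r < p ∧ r ∣ Nat.card G := by
  have hp := Fact.mk (hodd p hπ).1
  obtain ⟨P⟩ : Nonempty (Sylow p G) := inferInstance
  obtain ⟨k, hk⟩ := P.2.exists_card_eq
  have c : Nat.card P = p := by
    have h1 : k ≤ 1 := by_contra fun h => h2 ((pow_dvd_pow p (by omega)).trans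
      (hk ▸ card_subgroup_dvd_card (P : Subgroup G)))
    have h0 : k ≠ 0 := by
      rintro rfl
      exact P.ne_bot_of_dvd_card hd (card_eq_one.1 hk)
    rw [show Nat.card P = p ^ k from hk, show k = 1 by omega, pow_one]
  have hP : IsCyclic P := isCyclic_of_prime_card c
  obtain ⟨r, hr, -, h1, h3⟩ := ph_step hodd hh hn hπ hd P
  have key := card_dvd_of_injective _ (QuotientGroup.kerLift_injective P.normalizerMonoidHom)
  rw [normalizerMonoidHom_ker, ← index, ← relIndex, hP.card_mulAut, c, Nat.totient_prime hp.out] at key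
  have := hp.out.two_le
  have := Nat.le_of_dvd (by omega) (h3.trans key)
  exact ⟨r, hr, by omega, h1⟩

theorem ph_card (h : ∀ p ∈ π, ¬ p ^ 2 ∣ Nat.card G) (p : ℕ) : p ∈ π → ¬ p ∣ Nat.card G := by
  induction p using Nat.strong_induction_on with
  | _ p ih =>
  intro hπ hd
  obtain ⟨r, h1, h2, h3⟩ := ph_sq hodd hh hn hπ hd (h p hπ)
  exact ih r h2 h1 h3

theorem ph_psl {F : Type*} [Field F] [Fintype F] (e : G ≃* PSL(2, F)) {p : ℕ} (hπ : p ∈ π) :
    ¬ p ∣ Nat.card G := fun hd => by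
  have k : ∀ r ∈ π, r ∣ Nat.card G → r ∣ Nat.card F := fun r hr hd => by_contra fun k => by
    have := Fact.mk (hodd r hr).1
    obtain ⟨x, hx⟩ := exists_prime_orderOf_dvd_card' r hd
    obtain ⟨t, h1, h2⟩ := real_of_psl2 e x (hx ▸ (Nat.Prime.coprime_iff_not_dvd (hodd r hr).1).2 k)
    exact ph_inv hodd hh hr hx h1 h2
  obtain ⟨l, hl, n, hl', hF⟩ := FiniteField.card' F
  have k' : ∀ r ∈ π, r ∣ Nat.card G → r = l := fun r hr hd =>
    (Nat.prime_dvd_prime_iff_eq (hodd r hr).1 hl').1 ((hodd r hr).1.dvd_of_dvd_pow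
      (by rw [← hF, ← Nat.card_eq_fintype_card]; exact k r hr hd))
  obtain rfl := k' p hπ hd
  have := Fact.mk hl'
  obtain ⟨P⟩ : Nonempty (Sylow p G) := inferInstance
  have h1 := (JRE.Cnt.psl_p (P.isPGroup'.map e.toMonoidHom)).1
  have : IsMulCommutative (P : Subgroup G) := ⟨⟨fun a b => Subtype.ext (e.injective (by
    rw [coe_mul, coe_mul, map_mul, map_mul]
    exact congrArg Subtype.val (h1.is_comm.comm ⟨e a, mem_map_of_mem _ a.2⟩ ⟨e b, mem_map_of_mem _ b.2⟩)))⟩⟩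
  obtain ⟨r, h2, h3, h4, -⟩ := ph_step hodd hh hn hπ hd P
  exact h3 (k' r h2 h4)

theorem ph_A7 (e : G ≃* alternatingGroup (Fin 7)) {p : ℕ} (hπ : p ∈ π) : ¬ p ∣ Nat.card G := by
  have c : Nat.card G = 2520 := by
    have := two_mul_nat_card_alternatingGroup (α := Fin 7)
    rw [Nat.card_perm, Nat.card_eq_fintype_card (α := Fin 7), Fintype.card_fin, ← Nat.card_congr e.toEquiv] at this
    norm_num [Nat.factorial] at this
    omega
  refine ph_card hodd hh hn (fun r hr hd => ?_) p hπ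
  have h3 : r = 3 := by
    obtain ⟨h1, h2⟩ := hodd r hr
    rw [c] at hd
    have : r < 51 := by_contra fun k => by have := Nat.le_of_dvd (by norm_num) hd; nlinarith
    interval_cases r <;> simp_all (config := {decide := true})
  subst h3
  let x : alternatingGroup (Fin 7) := ⟨Equiv.swap 0 1 * Equiv.swap 1 2, Equiv.Perm.mem_alternatingGroup.2 (by decide)⟩
  let t : alternatingGroup (Fin 7) := ⟨Equiv.swap 0 1 * Equiv.swap 3 4, Equiv.Perm.mem_alternatingGroup.2 (by decide)⟩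
  have := Fact.mk Nat.prime_three
  refine ph_inv hodd hh hr (x := e.symm x) (t := e.symm t) ?_ ?_ ?_
  · rw [MulEquiv.orderOf_eq]
    exact orderOf_eq_prime (by decide) (by decide)
  · rw [← map_mul, show t * t = 1 by decide, map_one]
  · rw [← map_inv, ← map_mul, ← map_mul, ← map_inv, show t * x * t⁻¹ = x⁻¹ by decide]

theorem ph_jr (hJ : Gs.JR G) {p : ℕ} (hπ : p ∈ π) : ¬ p ∣ Nat.card G := fun hd => by
  obtain ⟨t, a, b, ρ, E, E₀, T, h⟩ := JRE.exists_jr hJ
  have h0 := JRE.jr_bot h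
  obtain ⟨F, _, _, e, ⟨m, -, hq, -⟩ | ⟨-, ⟨e'⟩⟩⟩ := JRE.known_of_bot h h0
  · have hp := Fact.mk (hodd p hπ).1
    have := h.simple
    have h1 := ph_psl hodd (hh.comap E₀.subtype E₀.subtype_injective) h.nab e hπ
    have h2 : ¬ p ∣ 3 ^ (2 * m + 1) * ((3 ^ (2 * m + 1)) ^ 2 - 1) := by
      rw [← (JRE.card_q h hq e).1]
      exact hp.out.not_dvd_mul (fun k => (hodd p hπ).2 ((Nat.prime_dvd_prime_iff_eq hp.out Nat.prime_two).1 k)) h1
    obtain ⟨c, hc⟩ := exists_prime_orderOf_dvd_card' p hd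
    obtain ⟨h3, h4⟩ := JRE.ree_cz h h0 hq e h2 hc
    have := Fact.mk Nat.prime_two
    obtain ⟨s, hs, o⟩ := exists_mem_orderOf_eq (p := 2) ((show 2 ∣ 6 by norm_num).trans h4)
    exact (h3 s (ph_two hodd hh hπ hc (by rw [← sq, ← o, pow_orderOf_eq_one]) hs)).1 o
  · refine ph_card hodd hh hn (fun r hr hd => ?_) p hπ hd
    obtain ⟨h1, h2⟩ := hodd r hr
    rw [Nat.card_congr e'.toEquiv, Comp.J1.cardJ.2.1] at hd
    have h3 : r ∣ 2 ^ 3 * (3 * (5 * (7 * (11 * 19)))) := (dvd_pow_self r two_ne_zero).trans hd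
    simp only [h1.dvd_mul, h1.prime.dvd_pow_iff_dvd three_ne_zero] at h3
    rcases h3 with k | k | k | k | k | k <;>
      obtain rfl := (Nat.prime_dvd_prime_iff_eq h1 (by norm_num)).1 k <;> revert hd h2 <;> norm_num

omit hodd hh hn [IsSimpleGroup G] in
/-- Every 2-subgroup is cyclic or dihedral. -/
def PhD (G : Type*) [Group G] : Prop :=
  ∀ Q : Subgroup G, IsPGroup 2 Q → ∃ C : Subgroup G, IsCyclic C ∧
    ∀ g ∈ Q, g ∉ C → g * g = 1 ∧ ∀ h ∈ Q, h ∉ C → g * h ∈ C

theorem ph_simple (hP : AbelianTwo G ∨ PhD G) : PiClosed π G := by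
  refine piClosed_of_normal (K := ⊤) (fun p _ hd hπ => ?_) (fun p hp hd => absurd (by simpa using hd) hp.ne_one)
  rw [card_top] at hd
  by_cases hab : AbelianTwo G
  · rcases walter hn hab with ⟨F, _, _, n, -, -, ⟨e⟩⟩ | h | h
    · exact ph_psl hodd hh hn e hπ hd
    · obtain ⟨F, _, _, -, -, ⟨e⟩⟩ := GsC.four_known hn h
      exact ph_psl hodd hh hn e hπ hd
    · exact ph_jr hodd hh hn h hπ hd
  have := Fact.mk Nat.prime_two
  obtain ⟨S⟩ : Nonempty (Sylow 2 G) := inferInstance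
  obtain ⟨C, hC, h⟩ := hP.resolve_left hab S S.isPGroup'
  have hD : IsCyclic (C.subgroupOf (S : Subgroup G)) := isCyclic_of_injective
    ((S : Subgroup G).subtype.subgroupComap C) fun a b e =>
      Subtype.ext (Subtype.ext (congrArg (fun c : C => (c : G)) e))
  obtain ⟨s, hs⟩ : ∃ s : (S : Subgroup G), (s : G) ∉ C := by_contra fun k => by
    push Not at k
    have : IsCyclic (S : Subgroup G) := Subgroup.isCyclic_of_le fun s hs => k ⟨s, hs⟩
    exact hab (AbelianTwo.of_sylow S inferInstance)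
  have i : (C.subgroupOf (S : Subgroup G)).index = 2 := index_eq_two_iff.2 ⟨s, fun b => by
    simp only [mem_subgroupOf, coe_mul]
    by_cases hb : (b : G) ∈ C
    · exact .inr ⟨hb, fun k => hs ((C.mul_mem_cancel_left hb).1 k)⟩
    · exact .inl ⟨(h b b.2 hb).2 s s.2 hs, hb⟩⟩
  obtain ⟨e⟩ := Classical.DihRecog.equiv_dihedral_of_index_two _ i fun g hg => Subtype.ext (h g g.2 hg).1
  rcases known hn (dihSyl_of_simple hn S e) with ⟨F, _, _, -, -, ⟨e⟩⟩ | ⟨⟨e⟩⟩
  · exact ph_psl hodd hh hn e hπ hd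
  · exact ph_A7 hodd hh hn e hπ hd

omit hodd hh hn [IsSimpleGroup G]

theorem PhD.sub (h : PhD G) (K : Subgroup G) : PhD K := fun Q hQ => by
  obtain ⟨C, hC, i⟩ := h _ (hQ.map K.subtype)
  exact ⟨C.comap K.subtype, isCyclic_of_injective (K.subtype.subgroupComap C) fun a b e =>
    Subtype.ext (Subtype.ext (congrArg (fun c : C => (c : G)) e)), fun g hg k =>
      ⟨Subtype.ext (i g (mem_map_of_mem _ hg) k).1, fun x hx k' =>
        (i g (mem_map_of_mem _ hg) k).2 x (mem_map_of_mem _ hx) k'⟩⟩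

theorem PhD.map (h : PhD G) {X : Type*} [Group X] (f : G →* X) (hf : Function.Surjective f) : PhD X :=
  fun Q hQ => by
  have := Fact.mk Nat.prime_two
  have := Finite.of_surjective f hf
  obtain ⟨S, hS⟩ := hQ.exists_le_sylow
  obtain ⟨P, rfl⟩ := Sylow.mapSurjective_surjective hf 2 S
  obtain ⟨C, hC, i⟩ := h P P.isPGroup'
  refine ⟨C.map f, isCyclic_of_surjective _ (f.subgroupMap_surjective C), fun g hg k => ?_⟩
  obtain ⟨g, hg', rfl⟩ := hS hg
  have k1 := i g hg' fun e => k (mem_map_of_mem _ e)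
  refine ⟨by rw [← map_mul, k1.1, map_one], fun x hx k' => ?_⟩
  obtain ⟨x, hx', rfl⟩ := hS hx
  exact map_mul f g x ▸ mem_map_of_mem _ (k1.2 x hx' fun e => k' (mem_map_of_mem _ e))

theorem PhD.of_sylow (S : Sylow 2 G) {n : ℕ} (e : (S : Subgroup G) ≃* DihedralGroup n) : PhD G := fun Q hQ => by
  have := Fact.mk Nat.prime_two
  obtain ⟨T, hT⟩ := hQ.exists_le_sylow
  let f : DihedralGroup n →* G := (T : Subgroup G).subtype.comp (e.symm.trans (S.equiv T)).toMonoidHom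
  have hf : ∀ g ∈ Q, ∃ d, f d = g := fun g hg => ⟨(e.symm.trans (S.equiv T)).symm ⟨g, hT hg⟩, by simp [f]⟩
  have : NeZero n := ⟨by
    rintro rfl
    exact Nat.card_pos.ne' ((Nat.card_congr e.toEquiv).trans DihedralGroup.nat_card)⟩
  have hr : ∀ i, f (.r i) ∈ zpowers (f (.r 1)) := fun i => by
    rw [← ZMod.natCast_zmod_val i, ← DihedralGroup.r_one_pow, map_pow]
    exact pow_mem (mem_zpowers _) _
  refine ⟨zpowers (f (.r 1)), inferInstance, fun g hg k => ?_⟩
  obtain ⟨i | i, rfl⟩ := hf g hg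
  · exact absurd (hr i) k
  refine ⟨by rw [← map_mul, DihedralGroup.sr_mul_self, map_one], fun x hx k' => ?_⟩
  obtain ⟨j | j, rfl⟩ := hf x hx
  · exact absurd (hr j) k'
  rw [← map_mul, DihedralGroup.sr_mul_sr]
  exact hr _

end Cfsg.Agent.SW
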