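import Mathlib
import Cfsg.Agent.SW.Tool

/-! Simple groups with semidihedral Sylow 2-subgroups and cyclic odd Sylow subgroups: local analysis. -/

set_option autoImplicit false
set_option linter.unusedSectionVars false

namespace Cfsg.Agent.SW

open Subgroup Cfsg.Agent.GW Cfsg.Agent.LocalEven Cfsg.Agent.BG Cfsg.Agent.Gs Cfsg.Agent.DP Cfsg.Agent.Max.L2
open scoped MatrixGroups

variable {G : Type*} [Group G] [Finite G] {F : Type*} [Field F] [Fintype F]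

structure SD (S : Sylow 2 G) (a v z i : G) (m : ℕ) (φ : cz z →* PGL(2, F)) : Prop where
  qd : Inv.QD (S : Subgroup G) a v m
  hz : a ^ 2 ^ (m + 2) = z
  hi : a ^ 2 ^ (m + 1) = i
  zc : Zc G
  one : ∀ u, orderOf u = 2 → IsConj z u
  cyc : ∃ g, Cyc g z v
  two : (2 : F) ≠ 0
  pr : (Nat.card F).Prime
  sur : Function.Surjective φ
  ker : ∀ h, φ h = 1 ↔ (h : G) ∈ oOf (cz z) ∨ z * h ∈ oOf (cz z)
  ih : ∀ x : G, x ≠ 1 → Nat.card S ∣ Nat.card (cz x) → ∃ K ≤ cz x, K.relIndex (cz x) = 2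

namespace SD

variable {S : Sylow 2 G} {a v z i : G} {m : ℕ} {φ : cz z →* PGL(2, F)} (h : SD S a v z i m φ)
  {Q X K : Subgroup G} {x u w t : G}
include h

local notation "𝐎" => oOf (cz z)
local notation "𝐕" => four z v
local notation "𝐄" => oOf 𝐂(four z v)

theorem z2 : orderOf z = 2 := h.hz ▸ h.qd.z_two
theorem zz : z * z = 1 := sq_of_two h.z2
theorem SH : (S : Subgroup G) ≤ cz z := fun _ hs => mem_cz.2 (h.hz ▸ h.qd.commute_z hs)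
theorem vn : v ∈ nci z := ⟨h.qd.y_two, mem_cz.1 (h.SH h.qd.y_mem), fun e => h.qd.ny (e ▸ h.hz ▸ Inv.MC.z_memX _ _)⟩
theorem ia : i ∈ zpowers (a * a) := by
  rw [← h.hi, pow_succ', pow_mul, sq]; exact pow_mem (mem_zpowers _) _
theorem iS : i ∈ (S : Subgroup G) := h.qd.le (Inv.MC.sq_le a h.ia)
theorem ii : i * i = z := by rw [← h.hi, ← h.hz, ← pow_add, ← two_mul, ← pow_succ']
theorem vi : v * i * v⁻¹ = i⁻¹ := h.qd.inverts h.ia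
theorem vi' : v * i * v⁻¹ = z * i := by
  rw [h.vi, inv_eq_iff_mul_eq_one, ← mul_assoc, mem_cz.1 (h.SH h.iS), mul_assoc, h.ii, h.zz]
theorem iv : i * v * i⁻¹ = z * v :=
  calc _ = i * (v * i * v⁻¹)⁻¹ * v := by group
    _ = _ := by rw [h.vi, inv_inv, h.ii]
theorem iN : i ∈ 𝐍(𝐕) := mem_normalizer_of_cj_le (by
  rw [cj_four, conj_eq_of_mem_cz (h.SH h.iS), h.iv, four_mul])
theorem kl : IsKleinFour 𝐕 := four_klein h.z2 h.vn
theorem pV : IsPGroup 2 𝐕 := four_pgroup h.z2 h.vn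
theorem VS : 𝐕 ≤ S := four_le.2 ⟨h.hz ▸ h.qd.z_mem, h.qd.y_mem⟩
theorem VC : 𝐕 ≤ 𝐂(𝐕) := by rw [centralizer_four]; exact le_inf (four_le_cz h.vn) (four_le_cz' h.vn)
theorem CH : 𝐂(𝐕) ≤ cz z := cent_le_cz (left_mem_four z v)
theorem zO : z ∉ 𝐎 := not_mem_of_odd (odd_oOf _) h.z2

theorem le_V (hQ : IsPGroup 2 Q) (hc : Q ≤ 𝐂(𝐕)) : Q ≤ 𝐕 := by
  obtain ⟨k, -, hk⟩ := (Core.isSylowOf_top S).exists_conj_le (IsPGroup.to_sup_of_normal_left' h.pV hQ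
    (hc.trans (cent_le_norm' _))) le_top
  replace hk : cj k (𝐕 ⊔ Q) ≤ S := hk
  obtain ⟨s, hs, e⟩ := h.qd.four_conj (Inv.four_cj h.kl k) ((cj_le_cj.2 le_sup_left).trans hk)
  rw [h.hz] at e
  have e2 : cj (s⁻¹ * k) 𝐕 = 𝐕 := by rw [cj_mul, ← e, cj_inv_cj]
  rw [← cj_le_cj (g := s⁻¹ * k), e2]
  intro q hq
  have h1 : q ∈ (S : Subgroup G) := by
    rw [cj_mul] at hq
    exact cj_eq_of_mem_normalizer (le_normalizer (inv_mem (h.qd.le hs))) ▸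
      cj_le_cj.2 ((cj_le_cj.2 le_sup_right).trans hk) hq
  have h2 : q ∈ 𝐂(𝐕) := by rw [← e2, ← cj_centralizer]; exact cj_le_cj.2 hc hq
  rw [mem_four h.z2 h.vn, ← h.hz]
  exact h.qd.mem_of_commute h1 (h2 v (right_mem_four z v)).symm

theorem cV : 𝐄 ⊔ 𝐕 = 𝐂(𝐕) := le_antisymm (sup_le (oOf_le _) h.VC) (JT.le_oOf_sup
  (Core.isSylowOf_of_maximal h.pV h.VC fun _ hQ hc _ => h.le_V hQ hc) fun _ hg _ => hg)

theorem cardC : Nat.card 𝐂(𝐕) = 4 * Nat.card 𝐄 := by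
  rw [← h.cV, Core.card_sup_of_disjoint (h.VC.trans (le_normalizer_oOf _))
    (disjoint_iff.2 (inf_comm 𝐄 _ ▸ inf_eq_bot_of_odd h.pV (odd_oOf _))), h.kl.card_four, h.cV, mul_comm]

theorem exists_t (hc : IsCyclic X) (hX : ∀ n ∈ 𝐍(𝐕), ∃ c ∈ 𝐂(𝐕), c * n ∈ 𝐍(X)) : ∃ t ∈ 𝐂(X), Cyc t z v := by
  obtain ⟨g, hg⟩ := h.cyc
  obtain ⟨c, hc1, h1⟩ := hX g hg.mem_normalizer
  obtain ⟨d, hd1, h2⟩ := hX i h.iN
  have k : ∀ {c n w}, c ∈ 𝐂(𝐕) → n ∈ 𝐍(𝐕) → w ∈ 𝐕 → c * n * w * (c * n)⁻¹ = n * w * n⁻¹ := fun {c n w} hc hn hw => by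
    rw [← conj_eq_of_cent hc (conj_mem_of_mem_normalizer hn hw)]; group
  have l := left_mem_four z v
  have r := right_mem_four z v
  have a1 := (k hc1 hg.mem_normalizer l).trans hg.a
  have a2 := (k hc1 hg.mem_normalizer r).trans hg.b
  have a3 := (k hc1 hg.mem_normalizer (mul_mem l r)).trans hg.c
  have b1 := (k hd1 h.iN l).trans (conj_eq_of_mem_cz (h.SH h.iS))
  have b2 := (k hd1 h.iN r).trans h.iv
  generalize c * g = y at *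
  generalize d * i = s at *
  have b3 : s * (z * v) * s⁻¹ = v := by rw [← conj_mul, b1, b2, ← mul_assoc, h.zz, one_mul]
  have inv : ∀ {y p q : G}, y * p * y⁻¹ = q → y⁻¹ * q * y = p := fun e => by rw [← e]; group
  have m := Amb.der_le_cent_of_cyclic hc le_rfl (commutator_mem_commutator h2 h1)
  rw [commutatorElement_def] at m
  have e : ∀ p, s * y * s⁻¹ * y⁻¹ * p * (s * y * s⁻¹ * y⁻¹)⁻¹ = s * (y * (s⁻¹ * (y⁻¹ * p * y) * s) * y⁻¹) * s⁻¹ :=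
    fun p => by group
  exact ⟨_, m, by rw [e, inv a3, inv b2, a2, b3], by rw [e, inv a1, inv b1, a1, b2], by rw [e, inv a2, inv b3, a3, b1]⟩

theorem card_ker : Nat.card φ.ker = Nat.card 𝐎 * 2 := by
  refine Eq.trans ?_ (congrArg _ ((Nat.card_zpowers z).trans h.z2))
  rw [← card_map_of_injective (cz z).subtype_injective, ← Core.card_sup_of_disjoint
    (zpowers_le.2 (le_normalizer_oOf _ (self_mem_cz z))) (disjoint_iff.2 (inf_comm 𝐎 _ ▸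
      inf_eq_bot_of_odd (pgroup_zp h.zz) (odd_oOf _)))]
  have k : φ ⟨z, self_mem_cz z⟩ = 1 := (h.ker _).2 (.inr (by rw [h.zz]; exact one_mem _))
  refine congrArg (fun K : Subgroup G => Nat.card K) (le_antisymm ?_ (sup_le
    (fun g hg => ⟨⟨g, oOf_le _ hg⟩, (h.ker _).2 (.inl hg), rfl⟩) (zpowers_le.2 (mem_map.2 ⟨_, k, rfl⟩))))
  rintro _ ⟨g, hg, rfl⟩
  exact ((h.ker g).1 hg).elim mem_sup_left fun k =>
    (mul_mem_cancel_left (mem_sup_right (mem_zpowers z))).1 (mem_sup_left k)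

theorem comm_iff {g u : cz z} : φ g ∈ cz (φ u) ↔ (g : G) * u * (g : G)⁻¹ * (u : G)⁻¹ ∈ 𝐎 ∨
    z * ((g : G) * u * (g : G)⁻¹ * (u : G)⁻¹) ∈ 𝐎 := by
  rw [mem_cz, ← mul_inv_eq_iff_eq_mul, ← mul_inv_eq_one, ← map_inv, ← map_inv, ← map_mul, ← map_mul, ← map_mul, h.ker]
  rfl

theorem card_cz (hu : u ∈ cz z) (hw : w ∈ cz z) {k : ℕ} (u2 : u ^ 2 ^ k = 1) (e : w * u * w⁻¹ = z * u) :
    Nat.card (cz z ⊓ cz u : Subgroup G) = Nat.card (cz (φ ⟨u, hu⟩)) * Nat.card (𝐎 ⊓ cz u : Subgroup G) := by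
  have n : cz z ⊓ cz u ≤ 𝐍(𝐎) := inf_le_left.trans (le_normalizer_oOf _)
  have m : ∀ g ∈ cz z, g ∈ 𝐎 ⊔ cz z ⊓ cz u ↔ g * u * g⁻¹ * u⁻¹ ∈ 𝐎 := fun g hg => ⟨fun k => by
    obtain ⟨o, ho, c, hc, rfl⟩ := (Core.mem_sup_of_le_normalizer n).1 k
    rw [show o * c * u * (o * c)⁻¹ * u⁻¹ = o * (c * u * c⁻¹ * o⁻¹ * u⁻¹) by group, conj_eq_of_mem_cz hc.2]
    exact mul_mem ho (conj_mem_of_mem_normalizer (le_normalizer_oOf _ hu) (inv_mem ho)), fun k => by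
    obtain ⟨o, ho, k⟩ := lift_cz (odd_oOf _) u2 (le_normalizer_oOf _ hu) k
    exact (mul_mem_cancel_left (mem_sup_left ho)).1 (mem_sup_right ⟨mul_mem (oOf_le _ ho) hg, k⟩)⟩
  have e1 : ∀ b ∈ cz z, b * w * u * (b * w)⁻¹ * u⁻¹ = z * (b * u * b⁻¹ * u⁻¹) := fun b hb => by
    rw [show b * w * u * (b * w)⁻¹ = b * (w * u * w⁻¹) * b⁻¹ by group, e, ← mul_assoc b, mem_cz.1 hb]; group
  have h1 : (𝐎 ⊔ cz z ⊓ cz u).relIndex (((cz (φ ⟨u, hu⟩)).comap φ).map (cz z).subtype) = 2 := by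
    refine relIndex_eq_two_iff.2 ⟨w, ⟨⟨w, hw⟩, h.comm_iff.2 (.inr ?_), rfl⟩, ?_⟩
    · simp only [e, mul_inv_cancel_right, h.zz, one_mem]
    rintro _ ⟨b, hb, rfl⟩
    rw [coe_subtype, m _ (mul_mem b.2 hw), m _ b.2, e1 _ b.2]
    have : ¬ (z * ((b : G) * u * (b : G)⁻¹ * u⁻¹) ∈ 𝐎 ∧ (b : G) * u * (b : G)⁻¹ * u⁻¹ ∈ 𝐎) := fun k =>
      h.zO ((mul_mem_cancel_right k.2).1 k.1)
    have := h.comm_iff.1 hb
    unfold Xor
    tauto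
  have h2 := Core.card_mul_relIndex (show 𝐎 ⊔ cz z ⊓ cz u ≤ ((cz (φ ⟨u, hu⟩)).comap φ).map (cz z).subtype from
    fun g hg => have k := sup_le (oOf_le _) inf_le_left hg; ⟨⟨g, k⟩, h.comm_iff.2 (.inl ((m g k).1 hg)), rfl⟩)
  have h3 := Core.card_sup_mul_card_inf n
  rw [h1, card_map_of_injective (cz z).subtype_injective, card_comap' h.sur, h.card_ker, mul_right_comm,
    mul_left_inj' two_ne_zero] at h2
  rw [h2, ← inf_assoc, inf_eq_left.2 (oOf_le _), mul_assoc] at h3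
  exact (Nat.eq_of_mul_eq_mul_left Nat.card_pos h3).symm

theorem ker_two (hu : u ∈ cz z) {k : ℕ} (u2 : u ^ 2 ^ k = 1) (e : φ ⟨u, hu⟩ = 1) : u = 1 ∨ u = z := by
  refine ((h.ker _).1 e).imp (fun e => eq_one_of_odd_of_two (isPGroup_zpowers u2) (mem_zpowers u)
    (odd_orderOf (odd_oOf _) e)) fun e => ?_
  rw [← mul_right_inj z, h.zz]
  refine eq_one_of_odd_of_two (isPGroup_zpowers (k := k + 1) ?_) (mem_zpowers _) (odd_orderOf (odd_oOf _) e)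
  rw [(show Commute z u from (mem_cz.1 hu).symm).mul_pow, pow_succ, pow_mul u, u2, mul_comm, pow_mul, sq, h.zz]
  simp

theorem exists_tor (hu : u ∈ cz z) (hw : w ∈ cz z) (u2 : u * u = 1 ∨ u * u = z) (e : w * u * w⁻¹ = z * u)
    (u1 : u ≠ 1) (uz : u ≠ z) : ∃ T D k, Max.L2.Tor T D k ∧ φ ⟨u, hu⟩ ∈ T ∧ cz (φ ⟨u, hu⟩) = D ∧ φ ⟨u, hu⟩ ≠ 1 ∧
      φ ⟨u, hu⟩ * φ ⟨u, hu⟩ = 1 ∧
      Nat.card (cz z ⊓ cz u : Subgroup G) = 2 * k * Nat.card (𝐎 ⊓ cz u : Subgroup G) := by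
  have u4 : u ^ 2 ^ 2 = 1 := by
    rw [sq, pow_mul, sq, sq]; exact u2.elim (fun e => by rw [e, one_mul]) fun e => by rw [e, h.zz]
  have h1 : φ ⟨u, hu⟩ ≠ 1 := fun e => (h.ker_two hu u4 e).elim u1 uz
  have h2 : φ ⟨u, hu⟩ * φ ⟨u, hu⟩ = 1 := by
    rw [← map_mul, h.ker]
    change u * u ∈ _ ∨ z * (u * u) ∈ _
    exact u2.imp (fun e => by rw [e]; exact one_mem _) fun e => by rw [e, h.zz]; exact one_mem _
  obtain ⟨T, D, k, hT, m⟩ := inv_tor' h.two h1 h2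
  exact ⟨T, D, k, hT, m, hT.centralizer_eq' m h1 h2, h1, h2, by
    rw [h.card_cz hu hw u4 e, cz, hT.centralizer_eq' m h1 h2, hT.card_D]⟩

theorem tv : ∃ T D k, Max.L2.Tor T D k ∧ φ ⟨v, nci_cz h.vn⟩ ∈ T ∧ cz (φ ⟨v, nci_cz h.vn⟩) = D ∧ φ ⟨v, nci_cz h.vn⟩ ≠ 1 ∧
    φ ⟨v, nci_cz h.vn⟩ * φ ⟨v, nci_cz h.vn⟩ = 1 ∧ k * Nat.card (𝐎 ⊓ cz v : Subgroup G) = 2 * Nat.card 𝐄 := by
  obtain ⟨T, D, k, h1, h2, h3, h4, h5, h6⟩ := h.exists_tor (nci_cz h.vn) (h.SH h.iS) (.inl (nci_sq h.vn)) h.iv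
    (Inv.ne_one_of_two h.vn.1) h.vn.2.2
  rw [← centralizer_four, h.cardC, mul_assoc] at h6
  exact ⟨T, D, k, h1, h2, h3, h4, h5, by omega⟩

theorem top_of (hv : v ∈ K) (hL : LL F ≤ (K.subgroupOf (cz z)).map φ) (g : PGL(2, F)) :
    g ∈ (K.subgroupOf (cz z)).map φ := by
  obtain ⟨T, D, k, hT, m, -, h1, h2, hk⟩ := h.tv
  have n : φ ⟨v, nci_cz h.vn⟩ ∉ LL F := fun hl => by
    obtain ⟨T', D', k', hT', m', c, rfl⟩ := inv_tor h.two hl h1 h2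
    rw [(hT.uniq hT' m m' h1).2.2, mul_assoc] at hk
    have := Nat.odd_iff.1 (odd_oOf 𝐂(𝐕))
    omega
  by_cases k : g ∈ LL F
  · exact hL k
  · exact (mul_mem_cancel_right (mem_map_of_mem φ (show (⟨v, _⟩ : cz z) ∈ K.subgroupOf _ from hv))).1
      (hL (mul_mem_LL k n))

theorem dvd_of (hz : z ∈ K) (hL : ∀ g, g ∈ (K.subgroupOf (cz z)).map φ) : Nat.card S ∣ Nat.card K := by
  have : cz z ≤ 𝐎 ⊔ K ⊓ cz z := fun g hg => by
    obtain ⟨c, hc, e⟩ := hL (φ ⟨g, hg⟩)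
    have m : (c : G) ∈ 𝐎 ⊔ K ⊓ cz z := mem_sup_right ⟨hc, c.2⟩
    rcases (h.ker (⟨g, hg⟩ * c⁻¹)).1 (by rw [map_mul, map_inv, e, mul_inv_cancel]) with k | k
    · exact (mul_mem_cancel_right (inv_mem m)).1 (mem_sup_left k)
    · exact (mul_mem_cancel_right (inv_mem m)).1 ((mul_mem_cancel_left
        (mem_sup_right (mem_inf.2 ⟨hz, self_mem_cz z⟩))).1 (mem_sup_left k))
  exact ((cop_of_two S.isPGroup' (odd_oOf _)).dvd_of_dvd_mul_left ((card_dvd_of_le (h.SH.trans this)).trans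
    (Core.card_sup_dvd (inf_le_right.trans (le_normalizer_oOf _))))).trans (card_dvd_of_le inf_le_left)

theorem frat {r : ℕ} (hr : r.Prime) (r2 : r ≠ 2) (hx : orderOf x = r) (xK : x ∈ K) {n : G} (hn : n ∈ 𝐍(K)) :
    ∃ c ∈ K, c * n ∈ 𝐍(zpowers x) := by
  have := Fact.mk hr
  have pX := isPGroup_zpowers_of_orderOf_eq hx
  obtain ⟨c, hc, e⟩ := cyconj (h.zc r hr r2) (zpowers_le.2 xK) (Y := cj n (zpowers x))
    (cj_eq_of_mem_normalizer hn ▸ cj_le_cj.2 (zpowers_le.2 xK)) pX (pX.map _) (card_cj _ _)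
  exact ⟨c, hc, mem_normalizer_of_cj_le (by rw [cj_mul, e])⟩

theorem A_bot : 𝐎 ⊓ cz v = ⊥ := by
  by_contra h0
  obtain ⟨r, hr, hd⟩ := Nat.exists_prime_and_dvd (mt card_eq_one.1 h0)
  have := Fact.mk hr
  obtain ⟨x, ⟨xO, xv⟩, hx⟩ := exists_mem_orderOf_eq hd
  have r2 : r ≠ 2 := by rintro rfl; exact not_mem_of_odd (odd_oOf _) hx xO
  have xC : x ∈ 𝐂(𝐕) := centralizer_four z v ▸ ⟨oOf_le _ xO, xv⟩
  obtain ⟨t, ht, C⟩ := h.exists_t (X := zpowers x) inferInstance fun n hn =>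
    h.frat hr r2 hx xC (Amb.norm_le_norm_cent _ hn)
  rw [cent_zpowers] at ht
  have zK : z ∈ cz x := mem_cz_comm.1 (oOf_le _ xO)
  have vK : v ∈ cz x := mem_cz_comm.1 xv
  have hM : (𝐍(zpowers x).subgroupOf (cz z)).map φ = ⊤ := top_le_iff.1 fun g _ => by
    obtain ⟨g, rfl⟩ := h.sur g
    obtain ⟨c, hc, e⟩ := h.frat hr r2 hx xO (le_normalizer_oOf _ g.2)
    exact ⟨⟨c, oOf_le _ hc⟩ * g, e, by rw [map_mul, (h.ker _).2 (.inl hc), one_mul]⟩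
  have h1 := h.top_of vK ((LL_le_comm h.two).trans (by
    rw [commutator_def, ← hM, ← map_commutator]
    refine map_mono (Subgroup.commutator_le.2 fun a ha b hb => ?_)
    exact cent_zpowers x ▸ Amb.der_le_cent_of_cyclic inferInstance le_rfl (commutator_mem_commutator ha hb)))
  obtain ⟨K, hK, hi⟩ := h.ih x (ne_one_of_orderOf_eq hx) (h.dvd_of zK h1)
  have sq : ∀ a ∈ cz x, a * a ∈ K := fun a ha => mul_self_mem_of_index_two hi ⟨a, ha⟩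
  have cm : ∀ a ∈ cz x, t * a * t⁻¹ * a⁻¹ ∈ K := fun a ha => by
    convert mul_mem (mul_mem (sq t ht) (sq _ (mul_mem (inv_mem ht) ha))) (sq _ (inv_mem ha)) using 1; group
  have zK' : z ∈ K := by simpa [C.b] using cm v vK
  have h2 := h.dvd_of zK' (h.top_of ((mul_mem_cancel_right (inv_mem zK')).1 (C.a ▸ cm z zK))
    (LL_le_of_sq h.two fun g => by
      obtain ⟨c, hc, rfl⟩ := h1 g
      exact ⟨c * c, sq c hc, map_mul _ _ _⟩))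
  have h3 := (Nat.mul_dvd_mul_right h2 2).trans (hi ▸ Core.card_mul_relIndex hK ▸ card_subgroup_dvd_card (cz x))
  rw [← (S : Subgroup G).card_mul_index] at h3
  exact S.not_dvd_index (Nat.dvd_of_mul_dvd_mul_left Nat.card_pos h3)

theorem EH : 𝐄 ≤ cz z := (oOf_le _).trans h.CH
theorem Ev : 𝐄 ≤ cz v := (oOf_le _).trans (cent_le_cz (right_mem_four z v))
theorem NE : 𝐍(𝐕) ≤ 𝐍(𝐄) := (Amb.norm_le_norm_cent _).trans (normalizer_le_normalizer_oOf _)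

theorem E_inj (hx : x ∈ 𝐄) (e : φ ⟨x, h.EH hx⟩ = 1) : x = 1 := by
  refine ((h.ker _).1 e).elim (fun k => mem_bot.1 (h.A_bot.le ⟨k, h.Ev hx⟩)) fun k => ?_
  have : z * x = 1 := mem_bot.1 (h.A_bot.le ⟨k, mul_mem (nci_cz' h.vn) (h.Ev hx)⟩)
  exact absurd ((congrArg (· ∈ _) (eq_inv_of_mul_eq_one_left this)).mpr (inv_mem hx)) (not_mem_of_odd (odd_oOf _) h.z2)

theorem i_ne : i ≠ 1 ∧ i ≠ z := ⟨fun e => Inv.ne_one_of_two h.z2 (by rw [← h.ii, e, one_mul]),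
  fun e => Inv.ne_one_of_two h.z2 (by rw [← h.ii, e, h.zz])⟩

theorem S_ker {s : G} (hs : s ∈ (S : Subgroup G)) (e : φ ⟨s, h.SH hs⟩ = 1) : s = 1 ∨ s = z :=
  (isPGroup_iff_mem.1 S.isPGroup' s hs).elim fun _ k => h.ker_two _ k e

theorem tE : ∃ T D, Max.L2.Tor T D (2 * Nat.card 𝐄) ∧ (∀ g ∈ T, g * g = 1 → g = 1 ∨ g = φ ⟨v, nci_cz h.vn⟩) ∧
    (∀ x (hx : x ∈ 𝐄), φ ⟨x, h.EH hx⟩ ∈ T) ∧ φ ⟨i, h.SH h.iS⟩ ∈ D ∧ φ ⟨i, h.SH h.iS⟩ ∉ T := by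
  obtain ⟨T, D, k, hT, m, hD, h1, h2, hk⟩ := h.tv
  rw [h.A_bot, card_bot, mul_one] at hk
  have := hT.cyc
  have u : ∀ g ∈ T, g * g = 1 → g = 1 ∨ g = φ ⟨v, nci_cz h.vn⟩ := fun g hg e => (mem_zpowers_two h2).1
    (mem_zpowers_of_cyclic m hg (by rw [two_of_sq h2 h1]; exact orderOf_dvd_of_pow_eq_one (by rwa [sq])))
  refine ⟨T, D, hk ▸ hT, u, fun x hx => ?_, hD ▸ h.comm_iff.2 (.inr ?_), fun k => ?_⟩
  · by_cases e : x = 1
    · subst e; exact (map_one φ).symm ▸ one_mem T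
    refine hT.mem_of_sq (hD ▸ h.comm_iff.2 (.inl ?_)) fun k => e (eq_one_of_sq (odd_orderOf (odd_oOf _) hx)
      (h.E_inj (mul_mem hx hx) ((map_mul _ _ _).trans k)))
    simp only [conj_eq_of_mem_cz (h.Ev hx), mul_inv_cancel, one_mem]
  · simp only [h.iv, mul_inv_cancel_right, h.zz, one_mem]
  rcases u _ k (by rw [← map_mul, h.ker]; exact .inr (by simp [h.ii, h.zz])) with e | e
  · exact (h.S_ker h.iS e).elim h.i_ne.1 h.i_ne.2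
  · have ia := Inv.MC.sq_le a h.ia
    refine h.qd.ny ((mul_mem_cancel_left (inv_mem ia)).1 ?_)
    rcases h.S_ker (mul_mem (inv_mem h.iS) h.qd.y_mem) ((map_mul φ (⟨i, h.SH h.iS⟩⁻¹) ⟨v, nci_cz h.vn⟩).trans
      (by rw [map_inv, e, inv_mul_cancel])) with e | e <;> rw [e]
    exacts [one_mem _, h.hz ▸ Inv.MC.z_memX _ _]

theorem invE : Inverts i 𝐄 := fun x hx => by
  obtain ⟨T, D, hT, -, h1, h2, h3⟩ := h.tE
  refine eq_inv_of_mul_eq_one_left (h.E_inj (mul_mem (conj_mem_of_mem_normalizer (h.NE h.iN) hx) hx) ?_)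
  have := hT.inv h2 h3 (h1 x hx)
  rw [eq_inv_iff_mul_eq_one, ← map_inv, ← map_mul, ← map_mul, ← map_mul] at this
  exact this

theorem cycE : IsCyclic 𝐄 := by
  obtain ⟨T, D, hT, -, h1, -⟩ := h.tE
  have := hT.cyc
  exact isCyclic_of_injective ((φ.comp (inclusion h.EH)).codRestrict T fun x => h1 x x.2)
    ((injective_iff_map_eq_one _).2 fun x e => Subtype.ext (h.E_inj x.2 (congrArg Subtype.val e)))

theorem tC : ∃ t ∈ 𝐂(𝐄), Cyc t z v := h.exists_t h.cycE fun n hn => ⟨1, one_mem _, (one_mul n).symm ▸ h.NE hn⟩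

theorem syl (hx : x ∈ 𝐄) (x1 : x ≠ 1) (hQ : IsPGroup 2 Q) (VQ : 𝐕 ≤ Q) (Qx : Q ≤ cz x) : Q ≤ 𝐕 := by
  have := Fact.mk Nat.prime_two
  have key : ∀ Q : Subgroup G, IsPGroup 2 Q → 𝐕 ≤ Q → Q ≤ cz x → Q ≤ cz z → Q ≤ 𝐕 := fun Q hQ VQ Qx QH q hq => by
    obtain ⟨T, D, hT, u, h1, -⟩ := h.tE
    have m : φ ⟨q, QH hq⟩ ∈ T := hT.centralizer_eq (h1 x hx) (fun k => x1 (eq_one_of_sq (odd_orderOf (odd_oOf _) hx)
      (h.E_inj (mul_mem hx hx) ((map_mul _ _ _).trans k)))) ▸ h.comm_iff.2 (.inl (by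
        simp only [conj_eq_of_mem_cz (Qx hq), mul_inv_cancel, one_mem]))
    have k : ∀ q (hq : q ∈ Q), φ ⟨q, QH hq⟩ = 1 → q ∈ 𝐕 := fun q hq e => by
      obtain ⟨j, hj⟩ := isPGroup_iff_mem.1 hQ q hq
      rcases h.ker_two _ hj e with rfl | rfl
      exacts [one_mem _, left_mem_four _ _]
    obtain ⟨j, hj⟩ := isPGroup_iff_mem.1 hQ q hq
    have r := right_mem_four z v
    rcases u _ m ((pow_eq_one_iff_of_coprime ((Nat.coprime_two_left.2 (odd_oOf 𝐂(𝐕))).pow_left j)).1 ⟨by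
      rw [← sq, pow_right_comm, ← map_pow, show (⟨q, QH hq⟩ : cz z) ^ 2 ^ j = 1 from Subtype.ext hj, map_one, one_pow],
      by rw [← sq, ← pow_mul]; exact orderOf_dvd_iff_pow_eq_one.1 (hT.orderOf_dvd m)⟩) with e | e
    · exact k q hq e
    · exact (mul_mem_cancel_right (inv_mem r)).1 (k _ (mul_mem hq (inv_mem (VQ r)))
        ((map_mul φ ⟨q, QH hq⟩ ⟨v, nci_cz h.vn⟩⁻¹).trans (by rw [map_inv, e, mul_inv_cancel])))
  obtain ⟨t, ht, C⟩ := h.tC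
  obtain ⟨y, hy, y2, hc⟩ := Dih.exists_central_of_isPGroup hQ fun e =>
    Inv.ne_one_of_two h.z2 (mem_bot.1 (e ▸ VQ (left_mem_four z v)))
  obtain ⟨s, hs, e⟩ : ∃ s ∈ zpowers t, s * y * s⁻¹ = z := by
    rcases (mem_four h.z2 h.vn).1 (h.le_V (isPGroup_zpowers_of_orderOf_eq y2)
      (zpowers_le.2 fun w hw => (hc w (VQ hw)).symm) (mem_zpowers y)) with e | e | e | e <;> rw [e]
    · exact absurd e (Inv.ne_one_of_two y2)
    · exact ⟨1, one_mem _, by simp⟩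
    · exact ⟨t⁻¹, inv_mem (mem_zpowers t), by rw [← C.a]; group⟩
    · exact ⟨t, mem_zpowers t, C.c⟩
  have n := cj_eq_of_mem_normalizer (zpowers_le.2 C.mem_normalizer hs)
  rw [← cj_le_cj (g := s), n]
  refine key _ (hQ.map _) (n ▸ cj_le_cj.2 VQ) ?_ (e ▸ cj_cz s y ▸ cj_le_cj.2 fun w hw => (mem_cz.2 (hc w hw).symm))
  exact cj_eq_of_mem_normalizer (le_normalizer (zpowers_le.2 (cent_le_cz hx ht) hs)) ▸ cj_le_cj.2 Qx

theorem Vx (hx : x ∈ 𝐄) : 𝐕 ≤ cz x := le_cz_iff.2 (oOf_le _ hx)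

theorem sylx (hx : x ∈ 𝐄) (x1 : x ≠ 1) : Core.IsSylowOf 2 𝐕 (cz x) :=
  have := Fact.mk Nat.prime_two
  Core.isSylowOf_of_maximal h.pV (h.Vx hx) fun _ hQ h1 h2 => h.syl hx x1 hQ h2 h1

theorem a4 : a * a * (a * a) ≠ 1 := fun e => by
  have := Nat.le_of_dvd four_pos (orderOf_dvd_of_pow_eq_one (x := a) (n := 4) (by
    rw [← e, pow_succ, pow_succ, sq, mul_assoc]))
  rw [h.qd.ord, pow_add, pow_add] at this
  have := Nat.two_pow_pos m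
  omega

theorem iH : cz i ≤ cz z := h.ii ▸ cz_le_sq i

theorem ai : a ∈ cz i := h.hi ▸ mem_cz.2 (Commute.self_pow a _)

theorem ti : ∃ T D k, Max.L2.Tor T D k ∧ φ ⟨a, h.SH h.qd.x_mem⟩ ∈ T ∧
    Nat.card (cz i) = 2 * k * Nat.card (𝐎 ⊓ cz i : Subgroup G) ∧
    (k + 2 = 2 * Nat.card 𝐄 ∧ k + 1 = Nat.card F ∨ k = 2 * Nat.card 𝐄 + 2 ∧ k = Nat.card F + 1) := by
  obtain ⟨T, D, k, hT, m, hD, h1, h2, hk⟩ := h.exists_tor (h.SH h.iS) (nci_cz h.vn) (.inr h.ii) h.vi' h.i_ne.1 h.i_ne.2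
  obtain ⟨T', D', hT', -⟩ := h.tE
  have n : φ ⟨a, h.SH h.qd.x_mem⟩ * φ ⟨a, h.SH h.qd.x_mem⟩ ≠ 1 := fun e => h.a4 (by
    rcases h.S_ker (mul_mem h.qd.x_mem h.qd.x_mem) ((map_mul _ _ _).trans e) with e | e <;> rw [e]
    exacts [one_mul 1, h.zz])
  have m' := hT.mem_of_sq (hD ▸ h.comm_iff.2 (.inl (by
    simp only [conj_eq_of_mem_cz h.ai, mul_inv_cancel, one_mem]))) n
  refine ⟨T, D, k, hT, m', by rwa [inf_eq_right.2 h.iH] at hk, ?_⟩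
  obtain ⟨j, -, hj⟩ := (Nat.dvd_prime_pow Nat.prime_two).1
    (h.qd.ord ▸ orderOf_mk _ (h.SH h.qd.x_mem) ▸ orderOf_map_dvd φ _)
  have h4 : 2 ^ 2 ∣ k := (pow_dvd_pow 2 (by_contra fun e => n (by
    rw [← sq, ← orderOf_dvd_iff_pow_eq_one, hj]
    exact (pow_dvd_pow 2 (by omega : j ≤ 1)).trans (by simp)))).trans (hj ▸ hT.orderOf_dvd m')
  have := Nat.odd_iff.1 (odd_oOf 𝐂(𝐕))
  have := h.pr.pos
  have := hT.k_eq
  have := hT'.k_eq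
  omega

end SD

end Cfsg.Agent.SW
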